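/-
Ring maps whose Spec is a universal homeomorphism, in elementary terms.
-/
import Mathlib.AlgebraicGeometry.Morphisms.UniversallyInjective
import Mathlib.AlgebraicGeometry.Morphisms.Integral
import Mathlib.AlgebraicGeometry.Morphisms.UnderlyingMap
import Mathlib.RingTheory.Ideal.GoingUp
import Mathlib.FieldTheory.IsAlgClosed.AlgebraicClosure
import Mathlib.RingTheory.LocalRing.ResidueField.Ideal
import Groth.Prelude.Def_Flat
import Groth.Prelude.Def_HTop2

set_option autoImplicit false

universe u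

open CategoryTheory AlgebraicGeometry Limits

namespace Groth.Agent.WN

variable {A B C : Type u} [CommRing A] [CommRing B] [CommRing C]

/-- A ring map is radicial if it is injective on field valued points. -/
def IsRadicial (φ : A →+* B) : Prop :=
  ∀ (K : Type u) [Field K] (g₁ g₂ : B →+* K), g₁.comp φ = g₂.comp φ → g₁ = g₂

/-- Integral, radicial and surjective on spectra. -/
structure IsRadHomeo (φ : A →+* B) : Prop where
  isIntegral : φ.IsIntegral
  surj : Function.Surjective (PrimeSpectrum.comap φ)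
  radicial : IsRadicial φ

/-- All residue field extensions along `φ` are trivial, said with fractions. -/
def HasTrivRes (φ : A →+* B) : Prop :=
  ∀ (q : Ideal B) [q.IsPrime] (b : B), ∃ a s : A, φ s ∉ q ∧ φ s * b - φ a ∈ q

lemma universallyInjective_specMap_iff (φ : A →+* B) :
    UniversallyInjective (Spec.map (CommRingCat.ofHom φ)) ↔ IsRadicial φ := by
  refine ((tfae_universallyInjective (Spec.map (CommRingCat.ofHom φ))).out 0 1 rfl rfl).trans ?_
  constructor
  · intro h K _ g₁ g₂ hg
    have := @h K _ (Spec.map (CommRingCat.ofHom g₁)) (Spec.map (CommRingCat.ofHom g₂)) (by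
      simp only [← Spec.map_comp, ← CommRingCat.ofHom_comp, hg])
    simpa using congrArg CommRingCat.Hom.hom (Spec.map_injective this)
  · intro h K _ g₁ g₂ hg
    obtain ⟨a₁, rfl⟩ := Spec.map_surjective g₁
    obtain ⟨a₂, rfl⟩ := Spec.map_surjective g₂
    simp only [← Spec.map_comp] at hg
    have := h K a₁.hom a₂.hom (by simpa using congrArg CommRingCat.Hom.hom (Spec.map_injective hg))
    exact congrArg Spec.map (CommRingCat.hom_ext this)

lemma isHomeomorph_of_integral_radicial_surjective {X Y : Scheme.{u}} (f : X ⟶ Y)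
    [IsIntegralHom f] [UniversallyInjective f] [Surjective f] : IsHomeomorph f.base := by
  rw [isHomeomorph_iff_continuous_isClosedMap_bijective]
  exact ⟨f.continuous, f.isClosedMap, f.injective, f.surjective⟩

lemma isUnivHomeo_iff {X Y : Scheme.{u}} (f : X ⟶ Y) :
    FlatMor.IsUnivHomeo f ↔ IsIntegralHom f ∧ UniversallyInjective f ∧ Surjective f := by
  constructor
  · intro h
    have h0 : IsHomeomorph f.base := h _ _ _ .of_id_snd
    have : UniversallyClosed f :=
      ⟨fun _ _ g₁ g₂ f' H => IsHomeomorph.isClosedMap (h g₁ g₂ f' H)⟩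
    have : UniversallyInjective f :=
      ⟨fun _ _ g₁ g₂ f' H => (IsHomeomorph.bijective (h g₁ g₂ f' H)).1⟩
    have : IsAffineHom f :=
      isAffineHom_of_isInducing f h0.isInducing h0.isClosedEmbedding.isClosed_range
    exact ⟨IsIntegralHom.iff_universallyClosed_and_isAffineHom.mpr ⟨‹_›, ‹_›⟩, ‹_›, ⟨h0.surjective⟩⟩
  · rintro ⟨h₁, h₂, h₃⟩ X' Y' g₁ g₂ f' H
    have : IsIntegralHom f' := MorphismProperty.of_isPullback H.flip h₁
    have : UniversallyInjective f' := MorphismProperty.of_isPullback H.flip h₂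
    have : Surjective f' := MorphismProperty.of_isPullback H.flip h₃
    exact isHomeomorph_of_integral_radicial_surjective f'

lemma isUnivHomeo_specMap_iff (φ : A →+* B) :
    FlatMor.IsUnivHomeo (Spec.map (CommRingCat.ofHom φ)) ↔ IsRadHomeo φ := by
  rw [isUnivHomeo_iff, IsIntegralHom.SpecMap_iff, universallyInjective_specMap_iff]
  constructor
  · rintro ⟨h₁, h₂, ⟨h₃⟩⟩
    exact ⟨h₁, h₃, h₂⟩
  · rintro ⟨h₁, h₂, h₃⟩
    exact ⟨h₁, h₃, ⟨h₂⟩⟩

/-- A prime over the kernel of a geometric point gives a geometric point with that kernel. -/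
lemma exists_point_at {φ : A →+* B} (hi : φ.IsIntegral) (q : Ideal B) [q.IsPrime]
    (K : Type u) [Field K] [IsAlgClosed K] (g : A →+* K) (hq : q.comap φ = RingHom.ker g) :
    ∃ h : B →+* K, h.comp φ = g ∧ RingHom.ker h = q := by
  let := φ.toAlgebra
  let P := RingHom.ker g
  have : P.IsPrime := RingHom.ker_isPrime g
  have : q.LiesOver P := ⟨hq.symm⟩
  have : Algebra.IsIntegral A B := ⟨hi⟩
  have : Algebra.IsIntegral (A ⧸ P) (B ⧸ q) :=
    ⟨fun x => IsIntegral.tower_top (R := A) (Algebra.IsIntegral.isIntegral (R := A) x)⟩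
  let := (RingHom.kerLift g).toAlgebra
  have hg' : Function.Injective (algebraMap (A ⧸ P) K) := RingHom.kerLift_injective g
  have : Module.IsTorsionFree (A ⧸ P) K :=
    Module.isTorsionFree_iff_algebraMap_injective.mpr hg'
  have : Algebra.IsAlgebraic (A ⧸ P) (B ⧸ q) := Algebra.IsIntegral.isAlgebraic
  have : Module.IsTorsionFree (A ⧸ P) (B ⧸ q) := by
    rw [Module.isTorsionFree_iff_algebraMap_injective, injective_iff_map_eq_zero]
    intro x hx
    obtain ⟨a, rfl⟩ := Ideal.Quotient.mk_surjective x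
    rw [Ideal.Quotient.eq_zero_iff_mem]
    change a ∈ RingHom.ker g
    rw [← hq, Ideal.mem_comap]
    exact Ideal.Quotient.eq_zero_iff_mem.mp hx
  let l : B ⧸ q →ₐ[A ⧸ P] K := IsAlgClosed.lift
  refine ⟨l.toRingHom.comp (Ideal.Quotient.mk _), ?_, ?_⟩
  · ext a
    exact (l.commutes (Ideal.Quotient.mk P a)).trans rfl
  · have : RingHom.ker l.toRingHom = ⊥ := by
      apply Ideal.eq_bot_of_comap_eq_bot (R := A ⧸ P)
      rw [RingHom.comap_ker]
      exact (RingHom.injective_iff_ker_eq_bot _).mp (by rw [AlgHom.toRingHom_eq_coe, AlgHom.comp_algebraMap]; exact hg')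
    rw [← RingHom.comap_ker, this, ← RingHom.ker_eq_comap_bot, Ideal.mk_ker]

/-- A field valued point of the source lifts along an integral map, surjective on spectra,
to any algebraically closed field. -/
lemma exists_lift_point {φ : A →+* B} (hi : φ.IsIntegral)
    (hs : Function.Surjective (PrimeSpectrum.comap φ)) (K : Type u) [Field K] [IsAlgClosed K]
    (g : A →+* K) : ∃ h : B →+* K, h.comp φ = g := by
  obtain ⟨q, hq⟩ := hs ⟨RingHom.ker g, RingHom.ker_isPrime g⟩
  obtain ⟨h, hh, -⟩ := exists_point_at hi q.asIdeal K g (congrArg PrimeSpectrum.asIdeal hq)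
  exact ⟨h, hh⟩

lemma IsRadHomeo.exists_lift {φ : A →+* B} (h : IsRadHomeo φ) (K : Type u) [Field K] [IsAlgClosed K]
    (g : A →+* K) : ∃ k : B →+* K, k.comp φ = g :=
  exists_lift_point h.isIntegral h.surj K g

/-- For surjectivity on spectra it is enough that every point lifts into some field. -/
lemma surj_of_exists_lift {φ : A →+* B}
    (h : ∀ p : Ideal A, p.IsPrime → ∃ (K : Type u) (_ : Field K) (k : B →+* K),
      RingHom.ker (k.comp φ) = p) :
    Function.Surjective (PrimeSpectrum.comap φ) := by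
  intro p
  obtain ⟨K, _, k, hk⟩ := h p.asIdeal p.isPrime
  exact ⟨⟨RingHom.ker k, RingHom.ker_isPrime k⟩, PrimeSpectrum.ext hk⟩

lemma surj_of_isIntegral_of_ker_le {φ : A →+* B} (hi : φ.IsIntegral)
    (hk : RingHom.ker φ ≤ nilradical A) : Function.Surjective (PrimeSpectrum.comap φ) := by
  intro p
  let := φ.toAlgebra
  have : Algebra.IsIntegral A B := ⟨hi⟩
  obtain ⟨Q, -, hQ, hQ'⟩ := Ideal.exists_ideal_over_prime_of_isIntegral (S := B) p.asIdeal
    (⊥ : Ideal B) (hk.trans (nilradical_le_prime p.asIdeal))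
  exact ⟨⟨Q, hQ⟩, PrimeSpectrum.ext hQ'⟩

lemma ker_le_nilradical_of_surj {φ : A →+* B} (hs : Function.Surjective (PrimeSpectrum.comap φ)) :
    RingHom.ker φ ≤ nilradical A := by
  intro x hx
  rw [nilradical_eq_sInf, Submodule.mem_sInf]
  intro p hp
  obtain ⟨q, hq⟩ := hs ⟨p, hp⟩
  have : q.asIdeal.comap φ = p := congrArg PrimeSpectrum.asIdeal hq
  rw [← this]
  exact Ideal.mem_comap.mpr (by rw [RingHom.mem_ker.mp hx]; exact q.asIdeal.zero_mem)

lemma IsRadHomeo.comp {φ : A →+* B} {ψ : B →+* C} (hφ : IsRadHomeo φ) (hψ : IsRadHomeo ψ) :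
    IsRadHomeo (ψ.comp φ) where
  isIntegral := RingHom.IsIntegral.trans φ ψ hφ.isIntegral hψ.isIntegral
  surj := by rw [PrimeSpectrum.comap_comp]; exact hφ.surj.comp hψ.surj
  radicial K _ g₁ g₂ h := by
    apply hψ.radicial
    apply hφ.radicial
    exact h

lemma IsRadHomeo.injective_comap {φ : A →+* B} (h : IsRadHomeo φ) :
    Function.Injective (PrimeSpectrum.comap φ) := by
  intro q₁ q₂ hq
  have hq' : q₁.asIdeal.comap φ = q₂.asIdeal.comap φ := congrArg PrimeSpectrum.asIdeal hq
  let K := AlgebraicClosure (q₂.asIdeal.comap φ).ResidueField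
  let g : A →+* K := (algebraMap (q₂.asIdeal.comap φ).ResidueField K).comp (algebraMap A _)
  have hker : RingHom.ker g = q₂.asIdeal.comap φ := by
    rw [RingHom.ker_comp_of_injective _ (RingHom.injective _), Ideal.ker_algebraMap_residueField]
  obtain ⟨k₁, h₁, e₁⟩ := exists_point_at h.isIntegral q₁.asIdeal K g (hq'.trans hker.symm)
  obtain ⟨k₂, h₂, e₂⟩ := exists_point_at h.isIntegral q₂.asIdeal K g hker.symm
  apply PrimeSpectrum.ext
  exact e₁.symm.trans ((congrArg RingHom.ker (h.radicial K k₁ k₂ (h₁.trans h₂.symm))).trans e₂)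

end Groth.Agent.WN
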