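/-
Residue field extensions along ring maps: triviality with fractions, comparison with schemes,
radicial maps give purely inseparable residue extensions.
-/
import Groth.Agent.WN.Basic
import Mathlib.FieldTheory.PurelyInseparable.Basic
import Mathlib.AlgebraicGeometry.Morphisms.Preimmersion

set_option autoImplicit false

universe u

open CategoryTheory AlgebraicGeometry

namespace Groth.Agent.WN

variable {A B : Type u} [CommRing A] [CommRing B]

lemma exists_frac (p : Ideal A) [p.IsPrime] (x : p.ResidueField) :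
    ∃ a s : A, s ∉ p ∧ x * algebraMap A p.ResidueField s = algebraMap A p.ResidueField a := by
  obtain ⟨a, b, hb, rfl⟩ := IsFractionRing.div_surjective (A ⧸ p) x
  obtain ⟨a, rfl⟩ := Ideal.Quotient.mk_surjective a
  obtain ⟨s, rfl⟩ := Ideal.Quotient.mk_surjective b
  have hs : s ∉ p := fun h => nonZeroDivisors.ne_zero hb (Ideal.Quotient.eq_zero_iff_mem.mpr h)
  refine ⟨a, s, hs, ?_⟩
  rw [Ideal.algebraMap_quotient_residueField_mk, Ideal.algebraMap_quotient_residueField_mk,
    div_mul_cancel₀]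
  rwa [ne_eq, Ideal.algebraMap_residueField_eq_zero]

lemma surjective_residueMap_iff (φ : A →+* B) (q : Ideal B) [q.IsPrime] :
    Function.Surjective (Ideal.ResidueField.map (q.comap φ) q φ rfl) ↔
      ∀ b : B, ∃ a s : A, φ s ∉ q ∧ φ s * b - φ a ∈ q := by
  constructor
  · intro h b
    obtain ⟨x, hx⟩ := h (algebraMap B _ b)
    obtain ⟨a, s, hs, hx'⟩ := exists_frac _ x
    refine ⟨a, s, hs, ?_⟩
    rw [← Ideal.algebraMap_residueField_eq_zero, map_sub, map_mul,
      ← Ideal.ResidueField.map_algebraMap (q.comap φ) q φ rfl s,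
      ← Ideal.ResidueField.map_algebraMap (q.comap φ) q φ rfl a, ← hx, ← map_mul, ← map_sub,
      mul_comm, hx', sub_self, map_zero]
  · intro h y
    have himg : ∀ b : B, ∃ x, Ideal.ResidueField.map (q.comap φ) q φ rfl x = algebraMap B _ b := by
      intro b
      obtain ⟨a, s, hs, hb⟩ := h b
      refine ⟨algebraMap A _ a / algebraMap A _ s, ?_⟩
      rw [map_div₀, Ideal.ResidueField.map_algebraMap, Ideal.ResidueField.map_algebraMap,
        div_eq_iff (by rwa [ne_eq, Ideal.algebraMap_residueField_eq_zero]), ← map_mul, eq_comm,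
        ← sub_eq_zero, ← map_sub, Ideal.algebraMap_residueField_eq_zero, mul_comm]
      exact hb
    obtain ⟨b, t, ht, e⟩ := exists_frac q y
    obtain ⟨u, hu⟩ := himg b
    obtain ⟨v, hv⟩ := himg t
    refine ⟨u / v, ?_⟩
    rw [map_div₀, hu, hv, div_eq_iff (by rwa [ne_eq, Ideal.algebraMap_residueField_eq_zero]), e]

lemma specMap_conj_aux {R S K L K' L' : CommRingCat.{u}} (φ : R ⟶ S) (a : R ⟶ K) (b : S ⟶ L)
    (m : K ⟶ L) (e₁ : K' ≅ K) (e₂ : L' ≅ L) (h : φ ≫ b = a ≫ m) :
    (Spec.map e₂.inv ≫ Spec.map b) ≫ Spec.map φ =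
      Spec.map (e₁.hom ≫ m ≫ e₂.inv) ≫ Spec.map e₁.inv ≫ Spec.map a := by
  simp [← Spec.map_comp, reassoc_of% h]

lemma specMap_residueFieldMap {R S : CommRingCat.{u}} (φ : R ⟶ S) (q : PrimeSpectrum S) :
    (Spec.map φ).residueFieldMap q =
      (Scheme.Spec.residueFieldIso R (PrimeSpectrum.comap φ.hom q)).hom ≫
        CommRingCat.ofHom (Ideal.ResidueField.map (PrimeSpectrum.asIdeal (PrimeSpectrum.comap φ.hom q))
          (PrimeSpectrum.asIdeal q) φ.hom rfl) ≫
        (Scheme.Spec.residueFieldIso S q).inv := by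
  apply Spec.map_injective
  refine (cancel_mono ((Spec R).fromSpecResidueField (Spec.map φ q))).mp ?_
  refine ((Spec.map φ).SpecMap_residueFieldMap_fromSpecResidueField q).trans ?_
  have h1 : φ ≫ CommRingCat.ofHom (algebraMap S (PrimeSpectrum.asIdeal q).ResidueField) =
      CommRingCat.ofHom (algebraMap R (PrimeSpectrum.asIdeal (PrimeSpectrum.comap φ.hom q)).ResidueField) ≫
        CommRingCat.ofHom (Ideal.ResidueField.map (PrimeSpectrum.asIdeal (PrimeSpectrum.comap φ.hom q))
          (PrimeSpectrum.asIdeal q) φ.hom rfl) := by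
    ext a
    exact (Ideal.ResidueField.map_algebraMap _ _ _ _ a).symm
  refine Eq.trans (congrArg (· ≫ Spec.map φ)
    (Scheme.Spec.map_residueFieldIso_inv_eq_fromSpecResidueField S q).symm) ?_
  refine Eq.trans ?_ (congrArg (_ ≫ ·)
    (Scheme.Spec.map_residueFieldIso_inv_eq_fromSpecResidueField R (Spec.map φ q)))
  exact specMap_conj_aux φ _ _ _ _ _ h1

lemma residueFieldsIso_specMap_iff (φ : A →+* B) :
    HTop.ResidueFieldsIso (Spec.map (CommRingCat.ofHom φ)) ↔ HasTrivRes φ := by
  have key : ∀ q : PrimeSpectrum B,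
      IsIso ((Spec.map (CommRingCat.ofHom φ)).residueFieldMap q) ↔
      ∀ b : B, ∃ a s : A, φ s ∉ PrimeSpectrum.asIdeal q ∧ φ s * b - φ a ∈ PrimeSpectrum.asIdeal q := by
    intro q
    rw [specMap_residueFieldMap]
    refine (@isIso_comp_left_iff _ _ _ _ _ _ _ (Iso.isIso_hom _)).trans
      ((@isIso_comp_right_iff _ _ _ _ _ _ _ (Iso.isIso_inv _)).trans
      ((ConcreteCategory.isIso_iff_bijective _).trans ?_))
    refine Iff.trans ?_ (@surjective_residueMap_iff A B _ _ φ (PrimeSpectrum.asIdeal q) (PrimeSpectrum.isPrime q))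
    exact ⟨fun h => h.2, fun h => ⟨RingHom.injective _, h⟩⟩
  exact ⟨fun h q hq b => (key ⟨q, hq⟩).mp (h ⟨q, hq⟩) b, fun h q =>
    (key q).mpr (@h (PrimeSpectrum.asIdeal q) (PrimeSpectrum.isPrime q))⟩

lemma IsRadicial.residueField_pow_mem {φ : A →+* B} (hr : IsRadicial φ) (hi : φ.IsIntegral)
    (q : Ideal B) [q.IsPrime] (x : q.ResidueField) :
    ∃ n : ℕ, x ^ ringExpChar (q.comap φ).ResidueField ^ n ∈
      Set.range (Ideal.ResidueField.map (q.comap φ) q φ rfl) := by
  let := (Ideal.ResidueField.map (q.comap φ) q φ rfl).toAlgebra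
  have : IsPurelyInseparable (q.comap φ).ResidueField q.ResidueField := by
    rw [isPurelyInseparable_iff_subsingleton_emb, subsingleton_iff]
    intro σ₁ σ₂
    apply AlgHom.coe_ringHom_injective
    apply Ideal.ResidueField.ringHom_ext
    apply hr
    ext a
    have h : ∀ σ : q.ResidueField →ₐ[(q.comap φ).ResidueField]
        AlgebraicClosure q.ResidueField, σ (algebraMap B q.ResidueField (φ a)) =
          algebraMap _ _ (algebraMap A (q.comap φ).ResidueField a) := by
      intro σ
      rw [← Ideal.ResidueField.map_algebraMap (q.comap φ) q φ rfl a]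
      exact σ.commutes _
    exact (h σ₁).trans (h σ₂).symm
  obtain ⟨n, hn⟩ := IsPurelyInseparable.pow_mem (F := (q.comap φ).ResidueField)
    (ringExpChar (q.comap φ).ResidueField) x
  exact ⟨n, RingHom.mem_range.mp hn⟩

end Groth.Agent.WN
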