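/-
Seminormal and absolutely weakly normal rings have no nontrivial reduced extensions with
universal homeomorphism on spectra.
-/
import Groth.Agent.WN.Residue
import Mathlib.Algebra.CharP.Lemmas

set_option autoImplicit false

universe u

namespace Groth.Agent.WN

variable {A C : Type u} [CommRing A] [CommRing C]

lemma isReduced_of_isSeminormalRing (hA : HTop.IsSeminormalRing A) : IsReduced A := by
  rw [isReduced_iff_pow_one_lt 2 one_lt_two]
  intro x hx
  obtain ⟨a, -, ha⟩ := hA 0 0 (by simp)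
  have h1 : x = a := ha x ⟨hx.symm, by rw [pow_succ, hx, zero_mul]⟩
  have h2 : (0 : A) = a := ha 0 ⟨(zero_pow two_ne_zero).symm, (zero_pow three_ne_zero).symm⟩
  rw [h1, h2]

/-- The fibrewise residue condition: every element of the target is, modulo each prime and after a
power of the exponential characteristic, a fraction from the source. -/
def HasPowRes (φ : A →+* C) : Prop :=
  ∀ (q : Ideal C) [q.IsPrime] (b : C), ∃ (n : ℕ) (a s : A),
    φ s ∉ q ∧ φ s * b ^ ringExpChar (q.comap φ).ResidueField ^ n - φ a ∈ q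

lemma IsRadHomeo.hasPowRes {φ : A →+* C} (h : IsRadHomeo φ) : HasPowRes φ := by
  intro q _ b
  obtain ⟨n, x, hx⟩ := h.radicial.residueField_pow_mem h.isIntegral q (algebraMap C _ b)
  obtain ⟨a, s, hs, e⟩ := exists_frac _ x
  refine ⟨n, a, s, hs, ?_⟩
  have := congrArg (Ideal.ResidueField.map (q.comap φ) q φ rfl) e
  rw [map_mul, hx, Ideal.ResidueField.map_algebraMap, Ideal.ResidueField.map_algebraMap] at this
  rw [← Ideal.algebraMap_residueField_eq_zero, map_sub, map_mul, map_pow, mul_comm, this, sub_self]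

section

variable {φ : A →+* C} [IsReduced C]

lemma mem_range_of_sq_cube (hinj : Function.Injective φ) (hA : HTop.IsSeminormalRing A) {b : C}
    (h2 : b ^ 2 ∈ φ.range) (h3 : b ^ 3 ∈ φ.range) : b ∈ φ.range := by
  obtain ⟨x, hx⟩ := h2
  obtain ⟨y, hy⟩ := h3
  obtain ⟨a, ⟨ha2, ha3⟩, -⟩ := hA x y (hinj (by rw [map_pow, map_pow, hx, hy]; ring))
  refine ⟨a, ?_⟩
  have e2 : φ a ^ 2 = b ^ 2 := by rw [← map_pow, ← ha2, hx]
  have e3 : φ a ^ 3 = b ^ 3 := by rw [← map_pow, ← ha3, hy]
  refine sub_eq_zero.mp (IsNilpotent.eq_zero ⟨3, ?_⟩)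
  linear_combination (4 : C) * e3 - 3 * (φ a + b) * e2

lemma mem_range_of_pow (hinj : Function.Injective φ) (hA : HTop.IsSeminormalRing A) {b : C}
    (k : ℕ) (h : ∀ n, k ≤ n → b ^ n ∈ φ.range) : b ∈ φ.range := by
  induction k with
  | zero => simpa using h 1 (Nat.zero_le _)
  | succ k ih =>
    apply ih
    intro n hn
    rcases Nat.eq_or_lt_of_le hn with rfl | hlt
    · rcases Nat.eq_zero_or_pos k with rfl | hk
      · exact ⟨1, by simp⟩
      · apply mem_range_of_sq_cube hinj hA <;> rw [← pow_mul] <;> exact h _ (by lia)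
    · exact h n hlt

end

/-- The conductor, as an ideal of the target. -/
def conductor (φ : A →+* C) : Ideal C where
  carrier := {b | ∀ c, b * c ∈ φ.range}
  add_mem' ha hb c := by rw [add_mul]; exact add_mem (ha c) (hb c)
  zero_mem' c := by rw [zero_mul]; exact zero_mem _
  smul_mem' d b hb c := by rw [smul_eq_mul, mul_comm d b, mul_assoc]; exact hb _

lemma conductor_isRadical {φ : A →+* C} [IsReduced C] (hinj : Function.Injective φ)
    (hA : HTop.IsSeminormalRing A) : (conductor φ).IsRadical := by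
  intro b hb c
  obtain ⟨k, hk⟩ := Ideal.mem_radical_iff.mp hb
  refine mem_range_of_pow hinj hA k fun n hn => ?_
  obtain ⟨m, rfl⟩ := Nat.exists_eq_add_of_le hn
  rw [mul_pow, pow_add, mul_assoc]
  exact hk _

lemma exists_mul_mem_of_minimal {J : Ideal C} (hJ : J.IsRadical) {r : Ideal C} [r.IsPrime]
    (hr : r ∈ J.minimalPrimes) {z : C} (hz : z ∈ r) : ∃ t ∉ r, t * z ∈ J := by
  by_contra! H
  obtain ⟨r', hr', hJr', hdis⟩ := Ideal.exists_le_prime_disjoint J
    (r.primeCompl ⊔ Submonoid.powers z) (by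
      rw [Set.disjoint_left]
      rintro x hx hx'
      obtain ⟨t, ht, w, ⟨n, rfl⟩, rfl⟩ := Submonoid.mem_sup.mp hx'
      refine H t ht (hJ ⟨n + 1, ?_⟩)
      rw [mul_pow, show t ^ (n + 1) * z ^ (n + 1) = (t ^ n * z) * (t * z ^ n) by ring]
      exact J.mul_mem_left _ hx)
  have hle : r' ≤ r := fun x hx => by
    by_contra hxr
    exact Set.disjoint_left.mp hdis hx (Submonoid.mem_sup_left hxr)
  exact Set.disjoint_left.mp hdis (hr.2 ⟨hr', hJr'⟩ hle hz)
    (Submonoid.mem_sup_right (Submonoid.mem_powers z))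

/-- One step of extracting roots of the residue characteristic, or none if it is `1`. -/
def PStep (φ : A →+* C) : Prop :=
  ∀ (p : Ideal A) [p.IsPrime], (∀ q, Nat.Prime q → (q : A) ∈ p → ∀ (b : C) (t : A), t ∉ p →
    φ t * b ^ q ∈ φ.range → (∃ s ∉ p, φ s * ((q : C) * b) ∈ φ.range) → ∃ s ∉ p, φ s * b ∈ φ.range)

/-- The key local-to-global argument. -/
lemma surjective_of_finite_aux {φ : A →+* C} [IsReduced C] (hfin : φ.Finite)
    (hinj : Function.Injective φ) (hφ : IsRadHomeo φ) (hA : HTop.IsSeminormalRing A)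
    (hstep : HasTrivRes φ ∨ PStep φ) : Function.Surjective φ := by
  classical
  let J := conductor φ
  have hJ : J.IsRadical := conductor_isRadical hinj hA
  by_contra hns
  have hI : J.comap φ ≠ ⊤ := by
    intro h
    refine hns fun c => ?_
    have := (show φ 1 ∈ J from (h ▸ Submodule.mem_top : (1 : A) ∈ J.comap φ)) c
    rwa [map_one, one_mul] at this
  obtain ⟨p, hp⟩ := Ideal.nonempty_minimalPrimes hI
  have : p.IsPrime := hp.1.1
  obtain ⟨r, hr⟩ := hφ.surj ⟨p, ‹_›⟩
  replace hr : r.asIdeal.comap φ = p := congrArg PrimeSpectrum.asIdeal hr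
  let := φ.toAlgebra
  have : Algebra.IsIntegral A C := ⟨hφ.isIntegral⟩
  have huniq : ∀ r' : Ideal C, r'.IsPrime → r'.comap φ = p → r' = r.asIdeal := fun r' h' e =>
    congrArg PrimeSpectrum.asIdeal (hφ.injective_comap (a₁ := ⟨r', h'⟩) (a₂ := r)
      (PrimeSpectrum.ext (e.trans hr.symm)))
  have hJr : J ≤ r.asIdeal := by
    obtain ⟨Q, hQ, hQp, hQc⟩ := Ideal.exists_ideal_over_prime_of_isIntegral (S := C) p J hp.1.2
    exact hQ.trans_eq (huniq Q hQp hQc)
  have hrmin : r.asIdeal ∈ J.minimalPrimes := by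
    refine ⟨⟨r.isPrime, hJr⟩, fun r' h' hle => ?_⟩
    have : r'.comap φ = p := le_antisymm ((Ideal.comap_mono hle).trans_eq hr)
      (hp.2 ⟨@Ideal.IsPrime.comap _ _ _ _ _ _ φ r' _ h'.1, Ideal.comap_mono h'.2⟩
        ((Ideal.comap_mono hle).trans_eq hr))
    exact (huniq r' h'.1 this).ge
  have hz : ∀ z ∈ r.asIdeal, ∃ t ∉ p, φ t * z ∈ φ.range := by
    intro z hz
    obtain ⟨t, ht, htz⟩ := exists_mul_mem_of_minimal hJ hrmin hz
    have hK : ¬ (J ⊔ Ideal.span {t}).comap φ ≤ p := by
      intro hle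
      obtain ⟨Q, hQ, hQp, hQc⟩ := Ideal.exists_ideal_over_prime_of_isIntegral (S := C) p _ hle
      exact ht (huniq Q hQp hQc ▸ hQ (Ideal.mem_sup_right (Ideal.mem_span_singleton_self t)))
    obtain ⟨a, ha, hap⟩ := SetLike.not_le_iff_exists.mp hK
    obtain ⟨j, hj, w, hw, e⟩ := Submodule.mem_sup.mp (Ideal.mem_comap.mp ha)
    obtain ⟨c, rfl⟩ := Ideal.mem_span_singleton'.mp hw
    refine ⟨a, hap, ?_⟩
    rw [← e, add_mul, mul_assoc]
    have := add_mem (J.mul_mem_right z hj) (J.mul_mem_left c htz) 1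
    rwa [mul_one] at this
  have hfrac : ∀ b : C, ∀ a s : A, φ s ∉ r.asIdeal → φ s * b - φ a ∈ r.asIdeal →
      ∃ t ∉ p, φ t * b ∈ φ.range := by
    intro b a s hs hb
    obtain ⟨t, ht, htb⟩ := hz _ hb
    refine ⟨t * s, fun h => ?_, ?_⟩
    · rcases Ideal.IsPrime.mem_or_mem ‹p.IsPrime› h with h | h
      · exact ht h
      · exact hs (Ideal.mem_comap.mp (hr.symm ▸ h : s ∈ r.asIdeal.comap φ))
    · have := add_mem htb (RingHom.mem_range_self φ (t * a))
      convert this using 1
      simp only [map_mul]; ring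
  have hall : ∀ b : C, ∃ t ∉ p, φ t * b ∈ φ.range := by
    intro b
    rcases hstep with h | h
    · obtain ⟨a, s, hs, hb⟩ := h r.asIdeal b
      exact hfrac b a s hs hb
    · obtain ⟨n, a, s, hs, hb⟩ := hφ.hasPowRes r.asIdeal b
      obtain ⟨t, ht, htb⟩ := hfrac _ a s hs hb
      clear hs hb a s
      rcases expChar_is_prime_or_one (r.asIdeal.comap φ).ResidueField
          (ringExpChar (r.asIdeal.comap φ).ResidueField) with hq | hq
      swap
      · rw [hq, one_pow, pow_one] at htb
        exact ⟨t, ht, htb⟩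
      generalize hqdef : ringExpChar (r.asIdeal.comap φ).ResidueField = q at hq htb
      have hqp : (q : A) ∈ p := by
        rw [← hr, ← Ideal.algebraMap_residueField_eq_zero, map_natCast]
        have : ExpChar (r.asIdeal.comap φ).ResidueField q := ringExpChar.of_eq hqdef
        cases this with
        | zero => exact absurd hq Nat.not_prime_one
        | prime _ => exact CharP.cast_eq_zero _ q
      induction n generalizing b t with
      | zero => exact ⟨t, ht, by simpa using htb⟩
      | succ n ih =>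
        obtain ⟨s, hs, hsb⟩ := h p q hq hqp (b ^ q ^ n) t ht (by rwa [← pow_mul, ← pow_succ])
          (hz _ (r.asIdeal.mul_mem_right _ (by
            have := (Ideal.mem_comap.mp (hr.symm ▸ hqp : (q : A) ∈ r.asIdeal.comap φ))
            rwa [map_natCast] at this)))
        exact ih b s hs hsb
  obtain ⟨G, hG⟩ := (Module.finite_def.mp hfin : (⊤ : Submodule A C).FG)
  choose t ht htG using hall
  refine (fun h : ∏ g ∈ G, t g ∈ p =>
    (Ideal.IsPrime.prod_mem_iff.mp h).elim fun g hg => ht g hg.2) (hp.1.2 ?_)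
  intro c
  have hc : c ∈ Submodule.span A (G : Set C) := hG.symm ▸ Submodule.mem_top
  induction hc using Submodule.span_induction with
  | mem g hg =>
    rw [← Finset.mul_prod_erase G t hg, map_mul, mul_comm (φ (t g)), mul_assoc]
    exact mul_mem (RingHom.mem_range_self _ _) (htG g)
  | zero => rw [mul_zero]; exact zero_mem _
  | add x y _ _ hx hy => rw [mul_add]; exact add_mem hx hy
  | smul a x _ hx =>
    rw [Algebra.smul_def, RingHom.algebraMap_toAlgebra, mul_left_comm]
    exact mul_mem (RingHom.mem_range_self _ _) hx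

lemma pStep_of_isAWNRing {φ : A →+* C} [IsReduced C] (hinj : Function.Injective φ)
    (hA : HTop.IsAWNRing A) : PStep φ := by
  rintro p _ q hq hqp b t ht ⟨x, hx⟩ ⟨s, hs, ⟨y, hy⟩⟩
  have hts : t * s ∉ p := fun h => (Ideal.IsPrime.mem_or_mem ‹_› h).elim ht hs
  refine ⟨t * s, hts, ?_⟩
  obtain ⟨m, rfl⟩ := Nat.exists_eq_add_of_lt hq.pos
  simp only [zero_add] at *
  let X := t ^ m * s ^ (m + 1) * x
  let Y := t * y
  have eX : φ X = (φ (t * s) * b) ^ (m + 1) := by
    simp only [X, map_mul, map_pow, hx]; ring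
  have eY : φ Y = ((m + 1 : ℕ) : C) * (φ (t * s) * b) := by
    simp only [Y, map_mul, hy]; ring
  obtain ⟨a, ⟨ha1, ha2⟩, -⟩ := hA.2 (m + 1) hq X Y (hinj (by
    rw [map_mul, map_pow, map_pow, map_natCast, eX, eY]; ring))
  refine ⟨a, ?_⟩
  generalize φ (t * s) * b = c at eX eY
  have e1 : φ a ^ (m + 1) = c ^ (m + 1) := by rw [← map_pow, ← ha1, eX]
  have e2 : ((m + 1 : ℕ) : C) * φ a = ((m + 1 : ℕ) : C) * c := by
    rw [← eY, ha2, map_mul, map_natCast]
  refine sub_eq_zero.mp (IsNilpotent.eq_zero ?_)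
  rw [← mem_nilradical, nilradical_eq_sInf, Submodule.mem_sInf]
  intro (Q : Ideal C) hQ
  have : Q.IsPrime := hQ
  rw [← Ideal.Quotient.eq_zero_iff_mem, map_sub, sub_eq_zero]
  by_cases hqQ : ((m + 1 : ℕ) : C) ∈ Q
  · have : ExpChar (C ⧸ Q) (m + 1) := by
      have : CharP (C ⧸ Q) (m + 1) := ringChar.of_eq (CharP.ringChar_of_prime_eq_zero hq (by
        rw [← map_natCast (Ideal.Quotient.mk Q)]
        exact Ideal.Quotient.eq_zero_iff_mem.mpr hqQ))
      exact ExpChar.prime hq
    apply frobenius_inj (C ⧸ Q) (m + 1)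
    simp only [frobenius_def, ← map_pow, e1]
  · have := congrArg (Ideal.Quotient.mk Q) e2
    rw [map_mul, map_mul] at this
    exact mul_left_cancel₀ (by rwa [ne_eq, Ideal.Quotient.eq_zero_iff_mem]) this

lemma injective_of_reduced {φ : A →+* C} [IsReduced A] (h : IsRadHomeo φ) :
    Function.Injective φ := by
  rw [RingHom.injective_iff_ker_eq_bot, eq_bot_iff]
  exact (ker_le_nilradical_of_surj h.surj).trans_eq (nilradical_eq_zero A)

lemma IsRadHomeo.restrict [Algebra A C] (h : IsRadHomeo (algebraMap A C)) (D : Subalgebra A C) :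
    IsRadHomeo (algebraMap A D) ∧
      (HasTrivRes (algebraMap A C) → HasTrivRes (algebraMap A D)) := by
  have hsub : Function.Injective D.val.toRingHom := Subtype.coe_injective
  have hcomp : D.val.toRingHom.comp (algebraMap A D) = algebraMap A C := rfl
  have hint : (algebraMap A D).IsIntegral :=
    RingHom.IsIntegral.tower_bot _ _ hsub (hcomp.symm ▸ h.isIntegral)
  have hint' : D.val.toRingHom.IsIntegral :=
    RingHom.IsIntegral.tower_top (algebraMap A D) _ (hcomp.symm ▸ h.isIntegral)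
  have hs' := surj_of_isIntegral_of_ker_le hint' (by
    rw [(RingHom.injective_iff_ker_eq_bot _).mp hsub]; exact bot_le)
  refine ⟨⟨hint, ?_, ?_⟩, ?_⟩
  · intro p
    obtain ⟨q, rfl⟩ := h.surj p
    exact ⟨PrimeSpectrum.comap D.val.toRingHom q, by
      rw [← PrimeSpectrum.comap_comp_apply, hcomp]⟩
  · intro K _ g₁ g₂ hg
    let j := algebraMap K (AlgebraicClosure K)
    obtain ⟨h₁, e₁⟩ := exists_lift_point hint' hs' _ (j.comp g₁)
    obtain ⟨h₂, e₂⟩ := exists_lift_point hint' hs' _ (j.comp g₂)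
    have := h.radicial _ h₁ h₂ (by
      rw [← hcomp, ← RingHom.comp_assoc, ← RingHom.comp_assoc, e₁, e₂, RingHom.comp_assoc,
        RingHom.comp_assoc, hg])
    exact RingHom.ext fun x => j.injective (DFunLike.congr_fun (e₁.symm.trans ((congrArg
      (fun k => RingHom.comp k D.val.toRingHom) this).trans e₂)) x)
  · intro ht q _ b
    obtain ⟨Q, hQ⟩ := hs' ⟨q, ‹_›⟩
    replace hQ : Q.asIdeal.comap D.val.toRingHom = q := congrArg PrimeSpectrum.asIdeal hQ
    obtain ⟨a, s, hs, hb⟩ := ht Q.asIdeal (b : C)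
    refine ⟨a, s, ?_, ?_⟩ <;> rw [← hQ, Ideal.mem_comap]
    · exact hs
    · rw [map_sub, map_mul]; exact hb

lemma bijective_aux {φ : A →+* C} [IsReduced C] (h : IsRadHomeo φ) (hA : HTop.IsSeminormalRing A)
    (hstep : HasTrivRes φ ∨ HTop.IsAWNRing A) : Function.Bijective φ := by
  have := isReduced_of_isSeminormalRing hA
  refine ⟨injective_of_reduced h, fun c => ?_⟩
  let := φ.toAlgebra
  let D := Algebra.adjoin A {c}
  have hinj : Function.Injective (algebraMap A D) := fun x y e =>
    injective_of_reduced h (congrArg Subtype.val e)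
  have : IsReduced D := isReduced_of_injective D.val Subtype.coe_injective
  have hfin : (algebraMap A D).Finite := by
    rw [RingHom.finite_algebraMap]
    exact Module.Finite.of_fg (IsIntegral.fg_adjoin_singleton (h.isIntegral c))
  obtain ⟨hD, hD'⟩ := IsRadHomeo.restrict (C := C) h D
  obtain ⟨a, ha⟩ := surjective_of_finite_aux hfin hinj hD hA
    (hstep.imp hD' (pStep_of_isAWNRing hinj)) ⟨c, Algebra.self_mem_adjoin_singleton A c⟩
  exact ⟨a, congrArg Subtype.val ha⟩

theorem bijective_of_isAWNRing {φ : A →+* C} [IsReduced C] (h : IsRadHomeo φ)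
    (hA : HTop.IsAWNRing A) : Function.Bijective φ :=
  bijective_aux h hA.1 (Or.inr hA)

theorem bijective_of_isSeminormalRing {φ : A →+* C} [IsReduced C] (h : IsRadHomeo φ)
    (h' : HasTrivRes φ) (hA : HTop.IsSeminormalRing A) : Function.Bijective φ :=
  bijective_aux h hA (Or.inl h')

end Groth.Agent.WN
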