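/-
The absolute weak normalization and the seminormalization of a ring, built inside the product over
all primes of algebraic closures of the residue fields.
-/
import Groth.Agent.WN.Closed

set_option autoImplicit false

universe u

namespace Groth.Agent.WN

variable {A B C : Type u} [CommRing A] [CommRing B] [CommRing C]

lemma IsRadHomeo.cancel {φ : A →+* B} {ψ : B →+* C} (hφ : IsRadHomeo φ)
    (hc : IsRadHomeo (ψ.comp φ)) : IsRadHomeo ψ where
  isIntegral := RingHom.IsIntegral.tower_top φ ψ hc.isIntegral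
  surj := fun q => by
    obtain ⟨r, hr⟩ := hc.surj (PrimeSpectrum.comap φ q)
    rw [PrimeSpectrum.comap_comp_apply] at hr
    exact ⟨r, hφ.injective_comap hr⟩
  radicial K _ g₁ g₂ h := hc.radicial K g₁ g₂ (by
    rw [← RingHom.comp_assoc, ← RingHom.comp_assoc, h])

lemma HasTrivRes.cancel {φ : A →+* B} {ψ : B →+* C} (hc : HasTrivRes (ψ.comp φ)) :
    HasTrivRes ψ := fun q _ c => by
  obtain ⟨a, s, hs, h⟩ := hc q c
  exact ⟨φ a, φ s, hs, h⟩

lemma HasTrivRes.comp {φ : A →+* B} {ψ : B →+* C} (hφ : HasTrivRes φ) (hψ : HasTrivRes ψ) :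
    HasTrivRes (ψ.comp φ) := fun q _ c => by
  obtain ⟨b, t, ht, hb⟩ := hψ q c
  obtain ⟨a₁, s₁, hs₁, h₁⟩ := hφ (q.comap ψ) b
  obtain ⟨a₂, s₂, hs₂, h₂⟩ := hφ (q.comap ψ) t
  rw [Ideal.mem_comap, map_sub, map_mul] at h₁ h₂
  rw [Ideal.mem_comap] at hs₁ hs₂
  refine ⟨a₁ * s₂, a₂ * s₁, fun h => ?_, ?_⟩ <;> simp only [RingHom.comp_apply, map_mul] at *
  · rcases Ideal.IsPrime.mem_or_mem ‹_› h with h | h
    · have : ψ (φ s₂) * ψ t ∈ q := by
        simpa using add_mem h₂ h
      rcases Ideal.IsPrime.mem_or_mem ‹_› this with h | h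
      · exact hs₂ h
      · exact ht h
    · exact hs₁ h
  · have := add_mem (add_mem (q.mul_mem_left (ψ (φ s₁) * ψ (φ s₂)) hb)
      (q.mul_mem_left (ψ (φ s₂)) h₁)) (q.mul_mem_left (-(c * ψ (φ s₁))) h₂)
    convert this using 1
    ring

lemma hasTrivRes_id : HasTrivRes (RingHom.id A) := fun q hq b =>
  ⟨b, 1, fun h => hq.ne_top ((Ideal.eq_top_iff_one q).mpr h), by simp⟩

/-- Radicial homeomorphism, with trivial residue extensions if `sn` holds. -/
structure Good (sn : Prop) (φ : A →+* B) : Prop where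
  radHomeo : IsRadHomeo φ
  trivRes : sn → HasTrivRes φ

variable (A) in
/-- The product of the algebraic closures of all residue fields. -/
abbrev PtAlg : Type u := ∀ p : PrimeSpectrum A, AlgebraicClosure p.asIdeal.ResidueField

lemma algebraMap_ptAlg_ker : RingHom.ker (algebraMap A (PtAlg A)) ≤ nilradical A := by
  intro x hx
  rw [nilradical_eq_sInf, Submodule.mem_sInf]
  intro (p : Ideal A) hp
  have : p.IsPrime := hp
  have h : algebraMap A (AlgebraicClosure p.ResidueField) x = 0 :=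
    congrFun (hx : algebraMap A (PtAlg A) x = 0) ⟨p, hp⟩
  rw [IsScalarTower.algebraMap_apply A p.ResidueField (AlgebraicClosure p.ResidueField),
    map_eq_zero, Ideal.algebraMap_residueField_eq_zero] at h
  exact h

lemma good_adjoin (sn : Prop) (S : Set (PtAlg A)) (hint : ∀ x ∈ S, IsIntegral A x)
    (hrad : ∀ (K : Type u) [Field K] (g₁ g₂ : Algebra.adjoin A S →+* K),
      g₁.comp (algebraMap A _) = g₂.comp (algebraMap A _) →
        ∀ x (hx : x ∈ S), g₁ ⟨x, Algebra.subset_adjoin hx⟩ = g₂ ⟨x, Algebra.subset_adjoin hx⟩)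
    (hres : sn → ∀ (q : Ideal (Algebra.adjoin A S)) [q.IsPrime] (x) (hx : x ∈ S), ∃ a s : A,
      algebraMap A _ s ∉ q ∧
        algebraMap A _ s * ⟨x, Algebra.subset_adjoin hx⟩ - algebraMap A _ a ∈ q) :
    Good sn (algebraMap A (Algebra.adjoin A S)) := by
  have hi : (algebraMap A (Algebra.adjoin A S)).IsIntegral := by
    intro ⟨x, hx⟩
    exact (isIntegral_algHom_iff (Algebra.adjoin A S).val Subtype.coe_injective).mp
      ((Algebra.adjoin_le (S := integralClosure A (PtAlg A)) hint) hx)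
  refine ⟨⟨hi, surj_of_isIntegral_of_ker_le hi fun x hx =>
    algebraMap_ptAlg_ker (congrArg Subtype.val (hx : algebraMap A _ x = (0 : Algebra.adjoin A S))), ?_⟩, ?_⟩
  · intro K _ g₁ g₂ hg
    refine RingHom.ext fun ⟨x, hx⟩ => ?_
    induction hx using Algebra.adjoin_induction with
    | mem x hx => exact hrad K g₁ g₂ hg x hx
    | algebraMap r => exact DFunLike.congr_fun hg r
    | add x y hx hy e₁ e₂ =>
      exact (map_add g₁ ⟨x, hx⟩ ⟨y, hy⟩).trans ((congrArg₂ (· + ·) e₁ e₂).trans (map_add g₂ _ _).symm)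
    | mul x y hx hy e₁ e₂ =>
      exact (map_mul g₁ ⟨x, hx⟩ ⟨y, hy⟩).trans ((congrArg₂ (· * ·) e₁ e₂).trans (map_mul g₂ _ _).symm)
  · intro hsn q _ ⟨x, hx⟩
    induction hx using Algebra.adjoin_induction with
    | mem x hx => exact hres hsn q x hx
    | algebraMap r =>
      refine ⟨r, 1, fun h => ‹q.IsPrime›.ne_top ((Ideal.eq_top_iff_one q).mpr (by simpa using h)), ?_⟩
      rw [map_one, one_mul]
      exact (sub_self (algebraMap A (Algebra.adjoin A S) r)).symm ▸ q.zero_mem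
    | add x y hx hy e₁ e₂ =>
      obtain ⟨a, s, hs, h₁⟩ := e₁
      obtain ⟨b, t, ht, h₂⟩ := e₂
      refine ⟨a * t + b * s, s * t, fun h => ?_, ?_⟩
      · rw [map_mul] at h; exact (Ideal.IsPrime.mem_or_mem ‹_› h).elim hs ht
      · have := add_mem (q.mul_mem_left (algebraMap A _ t) h₁) (q.mul_mem_left (algebraMap A _ s) h₂)
        convert this using 1
        simp only [map_add, map_mul, show (⟨x + y, add_mem hx hy⟩ : Algebra.adjoin A S) =
          ⟨x, hx⟩ + ⟨y, hy⟩ from rfl]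
        ring
    | mul x y hx hy e₁ e₂ =>
      obtain ⟨a, s, hs, h₁⟩ := e₁
      obtain ⟨b, t, ht, h₂⟩ := e₂
      refine ⟨a * b, s * t, fun h => ?_, ?_⟩
      · rw [map_mul] at h; exact (Ideal.IsPrime.mem_or_mem ‹_› h).elim hs ht
      · have := add_mem (q.mul_mem_left (algebraMap A _ t * ⟨y, hy⟩) h₁)
          (q.mul_mem_left (algebraMap A _ a) h₂)
        convert this using 1
        simp only [map_mul, show (⟨x * y, mul_mem hx hy⟩ : Algebra.adjoin A S) =
          ⟨x, hx⟩ * ⟨y, hy⟩ from rfl]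
        ring

lemma good_bot (sn : Prop) : Good sn (algebraMap A (Algebra.adjoin A (∅ : Set (PtAlg A)))) :=
  good_adjoin sn ∅ (by simp) (fun _ _ _ _ _ _ h => h.elim) (fun _ _ _ _ h => h.elim)

lemma good_sup {sn : Prop} {D₁ D₂ : Subalgebra A (PtAlg A)} (h₁ : Good sn (algebraMap A D₁))
    (h₂ : Good sn (algebraMap A D₂)) :
    Good sn (algebraMap A (Algebra.adjoin A ((D₁ : Set (PtAlg A)) ∪ D₂))) := by
  let D := Algebra.adjoin A ((D₁ : Set (PtAlg A)) ∪ D₂)
  let i₁ : D₁ →ₐ[A] D := Subalgebra.inclusion fun x hx => Algebra.subset_adjoin (Or.inl hx)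
  let i₂ : D₂ →ₐ[A] D := Subalgebra.inclusion fun x hx => Algebra.subset_adjoin (Or.inr hx)
  refine good_adjoin sn _ ?_ ?_ ?_
  · rintro x (hx | hx)
    · exact IsIntegral.map D₁.val (h₁.radHomeo.isIntegral ⟨x, hx⟩)
    · exact IsIntegral.map D₂.val (h₂.radHomeo.isIntegral ⟨x, hx⟩)
  · rintro K _ g₁ g₂ hg x (hx | hx)
    · exact DFunLike.congr_fun (h₁.radHomeo.radicial K (g₁.comp i₁.toRingHom) (g₂.comp i₁.toRingHom)
        (RingHom.ext fun a => DFunLike.congr_fun hg a)) ⟨x, hx⟩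
    · exact DFunLike.congr_fun (h₂.radHomeo.radicial K (g₁.comp i₂.toRingHom) (g₂.comp i₂.toRingHom)
        (RingHom.ext fun a => DFunLike.congr_fun hg a)) ⟨x, hx⟩
  · rintro hsn q _ x (hx | hx)
    · obtain ⟨a, s, hs, h⟩ := h₁.trivRes hsn (q.comap i₁.toRingHom) ⟨x, hx⟩
      exact ⟨a, s, hs, h⟩
    · obtain ⟨a, s, hs, h⟩ := h₂.trivRes hsn (q.comap i₂.toRingHom) ⟨x, hx⟩
      exact ⟨a, s, hs, h⟩

variable (A) in
/-- The absolute weak normalization (`sn` false), resp. seminormalization (`sn` true). -/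
def norm (sn : Prop) : Subalgebra A (PtAlg A) where
  carrier := {x | ∃ D : Subalgebra A (PtAlg A), Good sn (algebraMap A D) ∧ x ∈ D}
  mul_mem' := by
    rintro x y ⟨D₁, h₁, hx⟩ ⟨D₂, h₂, hy⟩
    exact ⟨_, good_sup h₁ h₂, mul_mem (Algebra.subset_adjoin (Or.inl hx))
      (Algebra.subset_adjoin (Or.inr hy))⟩
  add_mem' := by
    rintro x y ⟨D₁, h₁, hx⟩ ⟨D₂, h₂, hy⟩
    exact ⟨_, good_sup h₁ h₂, add_mem (Algebra.subset_adjoin (Or.inl hx))
      (Algebra.subset_adjoin (Or.inr hy))⟩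
  algebraMap_mem' r := ⟨_, good_bot sn, Subalgebra.algebraMap_mem _ r⟩

lemma le_norm {sn : Prop} {D : Subalgebra A (PtAlg A)} (h : Good sn (algebraMap A D)) :
    D ≤ norm A sn := fun _ hx => ⟨D, h, hx⟩

lemma good_norm (sn : Prop) : Good sn (algebraMap A (norm A sn)) := by
  have hi : (algebraMap A (norm A sn)).IsIntegral := by
    rintro ⟨x, D, hD, hx⟩
    exact IsIntegral.map (Subalgebra.inclusion (le_norm hD)) (hD.radHomeo.isIntegral ⟨x, hx⟩)
  refine ⟨⟨hi, surj_of_isIntegral_of_ker_le hi fun x hx =>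
    algebraMap_ptAlg_ker (congrArg Subtype.val (hx : algebraMap A _ x = (0 : norm A sn))), ?_⟩, ?_⟩
  · intro K _ g₁ g₂ hg
    refine RingHom.ext fun ⟨x, D, hD, hx⟩ => ?_
    exact DFunLike.congr_fun (hD.radHomeo.radicial K
      (g₁.comp (Subalgebra.inclusion (le_norm hD)).toRingHom)
      (g₂.comp (Subalgebra.inclusion (le_norm hD)).toRingHom)
      (RingHom.ext fun a => DFunLike.congr_fun hg a)) ⟨x, hx⟩
  · intro hsn q _ ⟨x, D, hD, hx⟩
    obtain ⟨a, s, hs, h⟩ := hD.trivRes hsn (q.comap (Subalgebra.inclusion (le_norm hD)).toRingHom) ⟨x, hx⟩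
    exact ⟨a, s, hs, h⟩

instance (sn : Prop) : IsReduced (norm A sn) :=
  isReduced_of_injective (norm A sn).val Subtype.coe_injective

lemma existsUnique_norm {sn : Prop} (ψ : A →+* C) (h : Good sn ψ) :
    ∃! χ : C →+* norm A sn, χ.comp ψ = algebraMap A (norm A sn) := by
  let := ψ.toAlgebra
  choose f hf using fun p : PrimeSpectrum A =>
    h.radHomeo.exists_lift (AlgebraicClosure p.asIdeal.ResidueField) (algebraMap A _)
  let F : C →ₐ[A] PtAlg A := ⟨Pi.ringHom f, fun a => funext fun p => DFunLike.congr_fun (hf p) a⟩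
  have hgood : Good sn (algebraMap A F.range) := by
    have hs : Function.Surjective F.rangeRestrict := F.rangeRestrict_surjective
    have hi : (algebraMap A F.range).IsIntegral := fun x => by
      obtain ⟨c, rfl⟩ := hs x
      exact IsIntegral.map F.rangeRestrict (h.radHomeo.isIntegral c)
    refine ⟨⟨hi, surj_of_isIntegral_of_ker_le hi fun x hx =>
      algebraMap_ptAlg_ker (congrArg Subtype.val (hx : algebraMap A _ x = (0 : F.range))), ?_⟩, ?_⟩
    · intro K _ g₁ g₂ hg
      refine RingHom.ext fun x => ?_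
      obtain ⟨c, rfl⟩ := hs x
      exact DFunLike.congr_fun (h.radHomeo.radicial K (g₁.comp F.rangeRestrict.toRingHom)
        (g₂.comp F.rangeRestrict.toRingHom) (RingHom.ext fun a => by
          simp only [RingHom.comp_apply]
          exact ((congrArg g₁ (F.rangeRestrict.commutes a)).trans (DFunLike.congr_fun hg a)).trans
            (congrArg g₂ (F.rangeRestrict.commutes a)).symm)) c
    · intro hsn q _ x
      obtain ⟨c, rfl⟩ := hs x
      obtain ⟨a, s, hs', hc⟩ := h.trivRes hsn (q.comap F.rangeRestrict.toRingHom) c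
      have e : ∀ r : A, F.rangeRestrict.toRingHom (ψ r) = algebraMap A F.range r :=
        F.rangeRestrict.commutes
      refine ⟨a, s, by rw [← e]; exact hs', ?_⟩
      rw [Ideal.mem_comap, map_sub, map_mul, e, e] at hc
      exact hc
  refine ⟨((Subalgebra.inclusion (le_norm hgood)).comp F.rangeRestrict).toRingHom,
    RingHom.ext fun a => ((Subalgebra.inclusion (le_norm hgood)).comp F.rangeRestrict).commutes a, ?_⟩
  intro χ hχ
  refine RingHom.ext fun c => Subtype.ext (funext fun p => ?_)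
  exact DFunLike.congr_fun (h.radHomeo.radicial (AlgebraicClosure p.asIdeal.ResidueField)
    (((Pi.evalRingHom _ p).comp (norm A sn).val.toRingHom).comp χ) (f p) (by
      rw [hf p, RingHom.comp_assoc, hχ]; rfl)) c

lemma isSeminormalRing_norm (sn : Prop) : HTop.IsSeminormalRing (norm A sn) := by
  classical
  intro x y hxy
  have hxy' : (x : PtAlg A) ^ 3 = (y : PtAlg A) ^ 2 := congrArg Subtype.val hxy
  let t : PtAlg A := fun p => (y : PtAlg A) p / (x : PtAlg A) p
  have ht : ∀ p, t p ^ 2 = (x : PtAlg A) p ∧ t p ^ 3 = (y : PtAlg A) p := by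
    intro p
    have h : (x : PtAlg A) p ^ 3 = (y : PtAlg A) p ^ 2 := congrFun hxy' p
    by_cases hx : (x : PtAlg A) p = 0
    · have hy : (y : PtAlg A) p = 0 := by
        rw [← pow_eq_zero_iff two_ne_zero, ← h, hx, zero_pow three_ne_zero]
      simp [t, hx, hy]
    · refine ⟨?_, ?_⟩ <;> simp only [t, div_pow] <;> rw [div_eq_iff (pow_ne_zero _ hx)]
      · rw [← h]; ring
      · rw [h, pow_succ]; ring
  have ht2 : t ^ 2 = x := funext fun p => (ht p).1
  have ht3 : t ^ 3 = y := funext fun p => (ht p).2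
  obtain ⟨D₁, hD₁, hx⟩ := x.2
  obtain ⟨D₂, hD₂, hy⟩ := y.2
  obtain ⟨D, hD, hxD, hyD⟩ : ∃ D : Subalgebra A (PtAlg A), Good sn (algebraMap A D) ∧
      (x : PtAlg A) ∈ D ∧ (y : PtAlg A) ∈ D :=
    ⟨_, good_sup hD₁ hD₂, Algebra.subset_adjoin (Or.inl hx), Algebra.subset_adjoin (Or.inr hy)⟩
  let S : Set (PtAlg A) := insert t (D : Set (PtAlg A))
  let D' := Algebra.adjoin A S
  let i : D →ₐ[A] D' := Subalgebra.inclusion fun z hz => Algebra.subset_adjoin (Or.inr hz)
  let T : D' := ⟨t, Algebra.subset_adjoin (Or.inl rfl)⟩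
  have hT2 : T ^ 2 = i ⟨x, hxD⟩ := Subtype.ext ht2
  have hT3 : T ^ 3 = i ⟨y, hyD⟩ := Subtype.ext ht3
  have hS : Good sn (algebraMap A D') := by
    refine good_adjoin sn S ?_ ?_ ?_
    · rintro z (rfl | hz)
      · exact IsIntegral.of_pow two_pos (ht2 ▸ IsIntegral.map D.val (hD.radHomeo.isIntegral ⟨x, hxD⟩))
      · exact IsIntegral.map D.val (hD.radHomeo.isIntegral ⟨z, hz⟩)
    · intro K _ g₁ g₂ hg z hz
      have := hD.radHomeo.radicial K (g₁.comp i.toRingHom) (g₂.comp i.toRingHom)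
        (RingHom.ext fun a => DFunLike.congr_fun hg a)
      rcases hz with rfl | hz
      · change g₁ T = g₂ T
        have e2 : g₁ T ^ 2 = g₂ T ^ 2 := by
          rw [← map_pow, ← map_pow, hT2]; exact DFunLike.congr_fun this _
        have e3 : g₁ T ^ 3 = g₂ T ^ 3 := by
          rw [← map_pow, ← map_pow, hT3]; exact DFunLike.congr_fun this _
        by_cases h0 : g₁ T = 0
        · rw [h0, zero_pow two_ne_zero, eq_comm, pow_eq_zero_iff two_ne_zero] at e2
          rw [h0, e2]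
        · exact mul_left_cancel₀ (pow_ne_zero 2 h0) (by linear_combination e3 - g₂ T * e2)
      · exact DFunLike.congr_fun this ⟨z, hz⟩
    · intro hsn q _ z hz
      rcases hz with rfl | hz
      · change ∃ a s : A, _ ∧ algebraMap A D' s * T - algebraMap A D' a ∈ q
        by_cases hTq : T ∈ q
        · exact ⟨0, 1, fun h => ‹q.IsPrime›.ne_top ((Ideal.eq_top_iff_one q).mpr (by simpa using h)),
            by simpa using hTq⟩
        obtain ⟨a₁, s₁, hs₁, h₁⟩ := hD.trivRes hsn (q.comap i.toRingHom) ⟨x, hxD⟩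
        obtain ⟨a₂, s₂, hs₂, h₂⟩ := hD.trivRes hsn (q.comap i.toRingHom) ⟨y, hyD⟩
        simp only [Ideal.mem_comap, AlgHom.toRingHom_eq_coe, RingHom.coe_coe, map_sub, map_mul,
          AlgHom.commutes, ← hT2, ← hT3] at h₁ h₂ hs₁ hs₂
        refine ⟨a₂ * s₁, a₁ * s₂, ?_, ?_⟩
        · rw [map_mul]
          intro h
          rcases Ideal.IsPrime.mem_or_mem ‹_› h with h | h
          · have := add_mem h₁ h
            rw [sub_add_cancel] at this
            exact (Ideal.IsPrime.mem_or_mem ‹_› this).elim hs₁ (fun h => hTq (Ideal.IsPrime.mem_of_pow_mem ‹_› 2 h))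
          · exact hs₂ h
        · have := add_mem (q.mul_mem_left (algebraMap A D' s₁) h₂)
            (q.mul_mem_left (-(algebraMap A D' s₂ * T)) h₁)
          convert this using 1
          simp only [map_mul]; ring
      · obtain ⟨a, s, hs, h⟩ := hD.trivRes hsn (q.comap i.toRingHom) ⟨z, hz⟩
        exact ⟨a, s, hs, h⟩
  refine ⟨⟨t, D', hS, T.2⟩, ⟨Subtype.ext ht2.symm, Subtype.ext ht3.symm⟩, ?_⟩
  rintro a ⟨ha2, ha3⟩
  refine Subtype.ext (funext fun p => ?_)
  have e2 : (x : PtAlg A) p = (a : PtAlg A) p ^ 2 := congrFun (congrArg Subtype.val ha2) p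
  have e3 : (y : PtAlg A) p = (a : PtAlg A) p ^ 3 := congrFun (congrArg Subtype.val ha3) p
  change (a : PtAlg A) p = (y : PtAlg A) p / (x : PtAlg A) p
  by_cases h0 : (a : PtAlg A) p = 0
  · simp [h0, e3]
  · rw [e2, e3, pow_succ', mul_div_assoc, div_self (pow_ne_zero 2 h0), mul_one]

lemma isAWNRing_norm {sn : Prop} (hsn : ¬ sn) : HTop.IsAWNRing (norm A sn) := by
  classical
  refine ⟨isSeminormalRing_norm sn, fun ℓ hℓ x y hxy => ?_⟩
  have hxy' : ∀ p, (ℓ : AlgebraicClosure (PrimeSpectrum.asIdeal p).ResidueField) ^ ℓ *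
      (x : PtAlg A) p = (y : PtAlg A) p ^ ℓ := fun p => by
    simpa using congrFun (congrArg Subtype.val hxy) p
  have hex : ∀ p, ∃ t : AlgebraicClosure (PrimeSpectrum.asIdeal p).ResidueField,
      t ^ ℓ = (x : PtAlg A) p ∧ (ℓ : _) * t = (y : PtAlg A) p := by
    intro p
    by_cases h : (ℓ : AlgebraicClosure p.asIdeal.ResidueField) = 0
    · obtain ⟨t, ht⟩ := IsAlgClosed.exists_pow_nat_eq ((x : PtAlg A) p) hℓ.pos
      refine ⟨t, ht, ?_⟩
      have := hxy' p
      rw [h, zero_pow hℓ.ne_zero, zero_mul, eq_comm, pow_eq_zero_iff hℓ.ne_zero] at this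
      rw [h, zero_mul, this]
    · refine ⟨(y : PtAlg A) p / ℓ, ?_, mul_div_cancel₀ _ h⟩
      rw [div_pow, ← hxy' p, mul_comm, mul_div_assoc, div_self (pow_ne_zero _ h), mul_one]
  choose t ht using hex
  have ht1 : t ^ ℓ = x := funext fun p => (ht p).1
  have ht2 : (ℓ : PtAlg A) * t = y := funext fun p => by simpa using (ht p).2
  obtain ⟨D₁, hD₁, hx⟩ := x.2
  obtain ⟨D₂, hD₂, hy⟩ := y.2
  obtain ⟨D, hD, hxD, hyD⟩ : ∃ D : Subalgebra A (PtAlg A), Good sn (algebraMap A D) ∧
      (x : PtAlg A) ∈ D ∧ (y : PtAlg A) ∈ D :=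
    ⟨_, good_sup hD₁ hD₂, Algebra.subset_adjoin (Or.inl hx), Algebra.subset_adjoin (Or.inr hy)⟩
  let S : Set (PtAlg A) := insert t (D : Set (PtAlg A))
  let D' := Algebra.adjoin A S
  let i : D →ₐ[A] D' := Subalgebra.inclusion fun z hz => Algebra.subset_adjoin (Or.inr hz)
  let T : D' := ⟨t, Algebra.subset_adjoin (Or.inl rfl)⟩
  have hT1 : T ^ ℓ = i ⟨x, hxD⟩ := Subtype.ext ht1
  have hT2 : (ℓ : D') * T = i ⟨y, hyD⟩ := Subtype.ext (by simpa [T, i] using ht2)
  have hS : Good sn (algebraMap A D') := by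
    refine good_adjoin sn S ?_ ?_ (fun h => absurd h hsn)
    · rintro z (rfl | hz)
      · exact IsIntegral.of_pow hℓ.pos (ht1 ▸ IsIntegral.map D.val (hD.radHomeo.isIntegral ⟨x, hxD⟩))
      · exact IsIntegral.map D.val (hD.radHomeo.isIntegral ⟨z, hz⟩)
    · intro K _ g₁ g₂ hg z hz
      have := hD.radHomeo.radicial K (g₁.comp i.toRingHom) (g₂.comp i.toRingHom)
        (RingHom.ext fun a => DFunLike.congr_fun hg a)
      rcases hz with rfl | hz
      · change g₁ T = g₂ T
        have e1 : g₁ T ^ ℓ = g₂ T ^ ℓ := by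
          rw [← map_pow, ← map_pow, hT1]; exact DFunLike.congr_fun this _
        have e2 : (ℓ : K) * g₁ T = (ℓ : K) * g₂ T := by
          rw [← map_natCast g₁, ← map_mul, map_natCast g₁, ← map_natCast g₂, ← map_mul, hT2]
          exact DFunLike.congr_fun this _
        by_cases h : (ℓ : K) = 0
        · have : CharP K ℓ := ringChar.of_eq (CharP.ringChar_of_prime_eq_zero hℓ h)
          have : ExpChar K ℓ := ExpChar.prime hℓ
          exact frobenius_inj K ℓ e1
        · exact mul_left_cancel₀ h e2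
      · exact DFunLike.congr_fun this ⟨z, hz⟩
  refine ⟨⟨t, D', hS, T.2⟩, ⟨Subtype.ext ht1.symm, Subtype.ext (by simpa using ht2.symm)⟩, ?_⟩
  rintro a ⟨ha1, ha2⟩
  refine Subtype.ext (funext fun p => ?_)
  have e1 : (x : PtAlg A) p = (a : PtAlg A) p ^ ℓ := congrFun (congrArg Subtype.val ha1) p
  have e2 : (y : PtAlg A) p = (ℓ : _) * (a : PtAlg A) p := by
    simpa using congrFun (congrArg Subtype.val ha2) p
  change (a : PtAlg A) p = t p
  by_cases h : (ℓ : AlgebraicClosure p.asIdeal.ResidueField) = 0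
  · have : CharP (AlgebraicClosure p.asIdeal.ResidueField) ℓ :=
      ringChar.of_eq (CharP.ringChar_of_prime_eq_zero hℓ h)
    have : ExpChar (AlgebraicClosure p.asIdeal.ResidueField) ℓ := ExpChar.prime hℓ
    exact frobenius_inj _ ℓ (e1.symm.trans (ht p).1.symm)
  · exact mul_left_cancel₀ h (e2.symm.trans (ht p).2.symm)

lemma good_false_iff {φ : A →+* B} : Good False φ ↔ IsRadHomeo φ :=
  ⟨fun h => h.radHomeo, fun h => ⟨h, False.elim⟩⟩

lemma isRingAWN_norm : HTop.IsRingAWN (algebraMap A (norm A False)) := by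
  refine ⟨(isUnivHomeo_specMap_iff _).mpr (good_norm False).radHomeo, fun C _ ψ hψ => ?_⟩
  exact existsUnique_norm ψ (good_false_iff.mpr ((isUnivHomeo_specMap_iff _).mp hψ))

lemma isRingSN_norm : HTop.IsRingSN (algebraMap A (norm A True)) := by
  refine ⟨⟨(isUnivHomeo_specMap_iff _).mpr (good_norm True).radHomeo,
    (residueFieldsIso_specMap_iff _).mpr ((good_norm True).trivRes trivial)⟩, fun C _ ψ hψ hψ' => ?_⟩
  exact existsUnique_norm ψ ⟨(isUnivHomeo_specMap_iff _).mp hψ,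
    fun _ => (residueFieldsIso_specMap_iff _).mp hψ'⟩

/-- A radicial homeomorphism onto an absolutely weakly normal ring is the weak normalization. -/
lemma exists_equiv_norm_of_isAWNRing {ψ : A →+* B} (h : IsRadHomeo ψ) (hB : HTop.IsAWNRing B) :
    ∃ e : B ≃+* norm A False, e.toRingHom.comp ψ = algebraMap A (norm A False) := by
  obtain ⟨χ, hχ, -⟩ := existsUnique_norm ψ (good_false_iff.mpr h)
  have : IsRadHomeo χ := h.cancel (hχ ▸ (good_norm (A := A) False).radHomeo)
  exact ⟨RingEquiv.ofBijective χ (bijective_of_isAWNRing this hB), hχ⟩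

lemma exists_equiv_norm_of_isSeminormalRing {ψ : A →+* B} (h : Good True ψ)
    (hB : HTop.IsSeminormalRing B) :
    ∃ e : B ≃+* norm A True, e.toRingHom.comp ψ = algebraMap A (norm A True) := by
  obtain ⟨χ, hχ, -⟩ := existsUnique_norm ψ h
  have hg : Good True (χ.comp ψ) := hχ ▸ good_norm (A := A) True
  exact ⟨RingEquiv.ofBijective χ (bijective_of_isSeminormalRing (h.radHomeo.cancel hg.radHomeo)
    (HasTrivRes.cancel (hg.trivRes trivial)) hB), hχ⟩

end Groth.Agent.WN
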