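/-
Seminormality and absolute weak normality are local; behaviour of radicial homeomorphisms
under localization.
-/
import Groth.Agent.WN.Normalization
import Mathlib.AlgebraicGeometry.Properties
import Mathlib.RingTheory.LocalProperties.Reduced

set_option autoImplicit false

universe u

open CategoryTheory AlgebraicGeometry

namespace Groth.Agent.WN

variable {A B C : Type u} [CommRing A] [CommRing B] [CommRing C]

lemma isSeminormalRing_of_ringEquiv (e : A ≃+* B) (hA : HTop.IsSeminormalRing A) :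
    HTop.IsSeminormalRing B := by
  intro x y h
  obtain ⟨a, ⟨h2, h3⟩, hu⟩ := hA (e.symm x) (e.symm y) (by rw [← map_pow, ← map_pow, h])
  refine ⟨e a, ⟨by rw [← map_pow, ← h2, e.apply_symm_apply], by rw [← map_pow, ← h3, e.apply_symm_apply]⟩,
    fun b hb => ?_⟩
  rw [← hu (e.symm b) ⟨by rw [← map_pow, ← hb.1], by rw [← map_pow, ← hb.2]⟩, e.apply_symm_apply]

lemma isAWNRing_of_ringEquiv (e : A ≃+* B) (hA : HTop.IsAWNRing A) : HTop.IsAWNRing B := by
  refine ⟨isSeminormalRing_of_ringEquiv e hA.1, fun p hp x y h => ?_⟩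
  obtain ⟨a, ⟨h1, h2⟩, hu⟩ := hA.2 p hp (e.symm x) (e.symm y) (by
    rw [← map_natCast e.symm, ← map_pow, ← map_mul, h, map_pow])
  refine ⟨e a, ⟨by rw [← map_pow, ← h1, e.apply_symm_apply],
    by rw [← map_natCast e, ← map_mul, ← h2, e.apply_symm_apply]⟩, fun b hb => ?_⟩
  rw [← hu (e.symm b) ⟨by rw [← map_pow, ← hb.1], by rw [← map_natCast e.symm, ← map_mul, ← hb.2]⟩,
    e.apply_symm_apply]

lemma eq_of_sq_eq_of_cube_eq [IsReduced A] {a b : A} (h2 : a ^ 2 = b ^ 2) (h3 : a ^ 3 = b ^ 3) :
    a = b := by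
  refine sub_eq_zero.mp (IsNilpotent.eq_zero ⟨3, ?_⟩)
  linear_combination (4 : A) * h3 - 3 * (a + b) * h2

lemma eq_of_pow_prime_eq [IsReduced A] {p : ℕ} (hp : p.Prime) {a b : A} (h1 : a ^ p = b ^ p)
    (h2 : (p : A) * a = (p : A) * b) : a = b := by
  refine sub_eq_zero.mp (IsNilpotent.eq_zero ?_)
  rw [← mem_nilradical, nilradical_eq_sInf, Submodule.mem_sInf]
  intro (Q : Ideal A) hQ
  have : Q.IsPrime := hQ
  rw [← Ideal.Quotient.eq_zero_iff_mem, map_sub, sub_eq_zero]
  by_cases hpQ : (p : A) ∈ Q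
  · have : CharP (A ⧸ Q) p := ringChar.of_eq (CharP.ringChar_of_prime_eq_zero hp (by
      rw [← map_natCast (Ideal.Quotient.mk Q)]
      exact Ideal.Quotient.eq_zero_iff_mem.mpr hpQ))
    have : ExpChar (A ⧸ Q) p := ExpChar.prime hp
    apply frobenius_inj (A ⧸ Q) p
    simp only [frobenius_def, ← map_pow, h1]
  · have := congrArg (Ideal.Quotient.mk Q) h2
    rw [map_mul, map_mul] at this
    exact mul_left_cancel₀ (by rwa [ne_eq, Ideal.Quotient.eq_zero_iff_mem]) this

section Localization

variable (M : Submonoid A) [Algebra A B] [IsLocalization M B]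

include M in
lemma isSeminormalRing_localization (hA : HTop.IsSeminormalRing A) : HTop.IsSeminormalRing B := by
  have := isReduced_of_isSeminormalRing hA
  have : IsReduced B := isReduced_localizationPreserves M B inferInstance
  intro x y h
  suffices ∃ a, x = a ^ 2 ∧ y = a ^ 3 by
    obtain ⟨a, h2, h3⟩ := this
    exact ⟨a, ⟨h2, h3⟩, fun b hb =>
      eq_of_sq_eq_of_cube_eq (hb.1.symm.trans h2) (hb.2.symm.trans h3)⟩
  obtain ⟨⟨X, u⟩, hX⟩ := IsLocalization.surj M x
  obtain ⟨⟨Y, v⟩, hY⟩ := IsLocalization.surj M y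
  simp only at hX hY
  have e : algebraMap A B ((X * u * v ^ 2) ^ 3) = algebraMap A B ((Y * u ^ 3 * v ^ 2) ^ 2) := by
    simp only [map_mul, map_pow, ← hX, ← hY]
    linear_combination (algebraMap A B u) ^ 6 * (algebraMap A B v) ^ 6 * h
  obtain ⟨c, hc⟩ := IsLocalization.exists_of_eq (M := M) e
  obtain ⟨a, ⟨h2, h3⟩, -⟩ := hA ((c : A) ^ 2 * (X * u * v ^ 2)) ((c : A) ^ 3 * (Y * u ^ 3 * v ^ 2)) (by
    linear_combination (c : A) ^ 5 * hc)
  obtain ⟨w, hw⟩ := IsLocalization.map_units B (c * u * v : M)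
  simp only [Submonoid.coe_mul, map_mul] at hw
  refine ⟨algebraMap A B a * (↑w⁻¹ : B), ?_, ?_⟩
  · rw [mul_pow, ← map_pow, ← h2]
    simp only [map_mul, map_pow, ← hX]
    linear_combination (-x) * ((↑w⁻¹ : B) * (↑w : B) + 1) * w.inv_mul + x * (↑w⁻¹ : B) ^ 2 *
      ((↑w : B) + algebraMap A B c * algebraMap A B u * algebraMap A B v) * hw
  · rw [mul_pow, ← map_pow, ← h3]
    simp only [map_mul, map_pow, ← hY]
    linear_combination (-y) * (((↑w⁻¹ : B) * (↑w : B)) ^ 2 + (↑w⁻¹ : B) * (↑w : B) + 1) * w.inv_mul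
      + y * (↑w⁻¹ : B) ^ 3 * ((↑w : B) ^ 2 + (↑w : B) * (algebraMap A B c * algebraMap A B u *
        algebraMap A B v) + (algebraMap A B c * algebraMap A B u * algebraMap A B v) ^ 2) * hw

include M in
lemma isAWNRing_localization (hA : HTop.IsAWNRing A) : HTop.IsAWNRing B := by
  have := isReduced_of_isSeminormalRing hA.1
  have : IsReduced B := isReduced_localizationPreserves M B inferInstance
  refine ⟨isSeminormalRing_localization M hA.1, fun p hp x y h => ?_⟩
  suffices ∃ a, x = a ^ p ∧ y = (p : B) * a by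
    obtain ⟨a, h1, h2⟩ := this
    exact ⟨a, ⟨h1, h2⟩, fun b hb =>
      eq_of_pow_prime_eq hp (hb.1.symm.trans h1) (hb.2.symm.trans h2)⟩
  obtain ⟨m, rfl⟩ := Nat.exists_eq_add_of_lt hp.pos
  simp only [zero_add] at *
  obtain ⟨⟨X, u⟩, hX⟩ := IsLocalization.surj M x
  obtain ⟨⟨Y, v⟩, hY⟩ := IsLocalization.surj M y
  simp only at hX hY
  have e : algebraMap A B (((m + 1 : ℕ) : A) ^ (m + 1) * (X * u ^ m * v ^ (m + 1))) =
      algebraMap A B ((Y * u) ^ (m + 1)) := by
    simp only [map_mul, map_pow, map_natCast, ← hX, ← hY, mul_pow, ← h]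
    ring
  obtain ⟨c, hc⟩ := IsLocalization.exists_of_eq (M := M) e
  obtain ⟨a, ⟨h1, h2⟩, -⟩ := hA.2 (m + 1) hp ((c : A) ^ (m + 1) * (X * u ^ m * v ^ (m + 1)))
    ((c : A) * (Y * u)) (by
    linear_combination (c : A) ^ m * hc)
  obtain ⟨w, hw⟩ := IsLocalization.map_units B (c * u * v : M)
  simp only [Submonoid.coe_mul, map_mul] at hw
  refine ⟨algebraMap A B a * (↑w⁻¹ : B), ?_, ?_⟩
  · have : x * (↑w : B) ^ (m + 1) = algebraMap A B a ^ (m + 1) := by
      rw [← map_pow, ← h1, hw]
      simp only [map_mul, map_pow, ← hX]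
      ring
    rw [mul_pow, ← this, mul_assoc, ← mul_pow, Units.mul_inv, one_pow, mul_one]
  · have : y * (↑w : B) = ((m + 1 : ℕ) : B) * algebraMap A B a := by
      rw [← map_natCast (algebraMap A B), ← map_mul, ← h2, hw]
      simp only [map_mul, ← hY]
      ring
    rw [← mul_assoc, ← this, mul_assoc, Units.mul_inv, mul_one]

end Localization

lemma bijective_norm_of_isAWNRing (hA : HTop.IsAWNRing A) :
    Function.Bijective (algebraMap A (norm A False)) :=
  bijective_of_isAWNRing (good_norm (A := A) False).radHomeo hA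

lemma bijective_norm_of_isSeminormalRing (hA : HTop.IsSeminormalRing A) :
    Function.Bijective (algebraMap A (norm A True)) :=
  bijective_of_isSeminormalRing (good_norm (A := A) True).radHomeo
    ((good_norm (A := A) True).trivRes trivial) hA

lemma Good.localization {sn : Prop} {φ : A →+* C} (h : Good sn φ) (M : Submonoid A)
    (A' C' : Type u) [CommRing A'] [CommRing C'] [Algebra A A'] [IsLocalization M A'] [Algebra C C']
    [IsLocalization (M.map φ) C'] :
    Good sn (IsLocalization.map C' φ M.le_comap_map : A' →+* C') := by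
  let φ' : A' →+* C' := IsLocalization.map C' φ M.le_comap_map
  have hcomm : φ'.comp (algebraMap A A') = (algebraMap C C').comp φ := IsLocalization.map_comp _
  refine ⟨⟨?_, ?_, ?_⟩, ?_⟩
  · intro z
    obtain ⟨c, ⟨_, t, ht, rfl⟩, rfl⟩ := IsLocalization.exists_mk'_eq (M.map φ) z
    have h1 : φ'.IsIntegralElem (algebraMap C C' c) := by
      obtain ⟨f, hf, hc⟩ := h.radHomeo.isIntegral c
      refine ⟨f.map (algebraMap A A'), hf.map _, ?_⟩
      rw [Polynomial.eval₂_map, show φ'.comp (algebraMap A A') = (algebraMap C C').comp φ from hcomm,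
        ← Polynomial.hom_eval₂, hc, map_zero]
    have h2 : φ'.IsIntegralElem (φ' (IsLocalization.mk' A' (1 : A) ⟨t, ht⟩)) :=
      φ'.isIntegralElem_map
    have e : IsLocalization.mk' C' c ⟨φ t, Submonoid.mem_map_of_mem _ ht⟩ =
        algebraMap C C' c * φ' (IsLocalization.mk' A' (1 : A) ⟨t, ht⟩) := by
      rw [IsLocalization.map_mk', map_one]
      exact IsLocalization.mk'_eq_mul_mk'_one c _
    exact e ▸ h1.mul φ' h2
  · intro P
    let K := AlgebraicClosure P.asIdeal.ResidueField
    let g : A' →+* K := (algebraMap P.asIdeal.ResidueField K).comp (algebraMap A' _)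
    obtain ⟨k, hk⟩ := h.radHomeo.exists_lift K (g.comp (algebraMap A A'))
    let k' : C' →+* K := IsLocalization.lift (M := M.map φ) (g := k) (by
      rintro ⟨_, m, hm, rfl⟩
      exact (DFunLike.congr_fun hk m).symm ▸ (IsLocalization.map_units A' ⟨m, hm⟩).map g)
    refine ⟨⟨RingHom.ker k', RingHom.ker_isPrime k'⟩, PrimeSpectrum.ext ?_⟩
    change Ideal.comap φ' (RingHom.ker k') = P.asIdeal
    rw [RingHom.comap_ker]
    have : k'.comp φ' = g := IsLocalization.ringHom_ext M (by
      rw [RingHom.comp_assoc, hcomm, ← RingHom.comp_assoc, IsLocalization.lift_comp, hk])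
    rw [this, RingHom.ker_comp_of_injective _ (RingHom.injective _), Ideal.ker_algebraMap_residueField]
  · intro K _ g₁ g₂ hg
    refine IsLocalization.ringHom_ext (M.map φ) (h.radHomeo.radicial K _ _ ?_)
    rw [RingHom.comp_assoc, RingHom.comp_assoc, ← hcomm, ← RingHom.comp_assoc, ← RingHom.comp_assoc]
    exact congrArg (fun f => RingHom.comp f _) hg
  · intro hsn q _ z
    obtain ⟨c, ⟨_, t, ht, rfl⟩, rfl⟩ := IsLocalization.exists_mk'_eq (M.map φ) z
    obtain ⟨a, s, hs, hc⟩ := h.trivRes hsn (q.comap (algebraMap C C')) c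
    rw [Ideal.mem_comap] at hs hc
    have e : ∀ r, φ' (algebraMap A A' r) = algebraMap C C' (φ r) := DFunLike.congr_fun hcomm
    refine ⟨algebraMap A A' a, algebraMap A A' (s * t), ?_, ?_⟩
    · rw [e, map_mul, map_mul]
      intro hm
      rcases Ideal.IsPrime.mem_or_mem ‹_› hm with hm | hm
      · exact hs hm
      · exact ‹q.IsPrime›.ne_top (q.eq_top_of_isUnit_mem hm
          (IsLocalization.map_units C' (⟨φ t, Submonoid.mem_map_of_mem _ ht⟩ : M.map φ)))
    · rw [e, e, map_mul, map_mul, mul_assoc,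
        IsLocalization.mk'_spec' C' c ⟨φ t, Submonoid.mem_map_of_mem _ ht⟩, ← map_mul, ← map_sub]
      exact hc

/-- Bijectivity onto the normalization can be checked on a cover by principal opens. -/
lemma bijective_norm_of_span {sn : Prop} (s : Finset A) (hs : Ideal.span (s : Set A) = ⊤)
    (hred : IsReduced A)
    (H : ∀ f ∈ s, ∀ (C' : Type u) [CommRing C'] [IsReduced C'] (ψ : Localization.Away f →+* C'),
      Good sn ψ → Function.Bijective ψ) :
    Function.Bijective (algebraMap A (norm A sn)) := by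
  refine ⟨injective_of_reduced (good_norm (A := A) sn).radHomeo, fun b => ?_⟩
  let φ := algebraMap A (norm A sn)
  let I : Ideal A :=
    { carrier := {c | φ c * b ∈ φ.range}
      add_mem' := fun {x y} hx hy => by
        simp only [Set.mem_ofPred_eq, map_add, add_mul] at hx hy ⊢; exact add_mem hx hy
      zero_mem' := by
        simp only [Set.mem_ofPred_eq, map_zero, zero_mul]; exact zero_mem _
      smul_mem' := fun c x hx => by
        simp only [Set.mem_ofPred_eq, smul_eq_mul, map_mul, mul_assoc] at hx ⊢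
        exact mul_mem (RingHom.mem_range_self φ c) hx }
  suffices h1 : (1 : A) ∈ I by
    obtain ⟨a, ha⟩ := (h1 : φ 1 * b ∈ φ.range)
    exact ⟨a, by rw [map_one, one_mul] at ha; exact ha⟩
  rw [← Ideal.eq_top_iff_one, ← Ideal.radical_eq_top, eq_top_iff, ← hs, Ideal.span_le]
  intro f hf
  let M := Submonoid.powers f
  let C' := Localization (M.map φ)
  have : IsReduced C' := isReduced_localizationPreserves (M.map φ) C' inferInstance
  have hg := (good_norm (A := A) sn).localization M (Localization.Away f) C'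
  obtain ⟨z, hz⟩ := (H f hf C' _ hg).2 (algebraMap _ C' b)
  obtain ⟨a, ⟨_, n, rfl⟩, rfl⟩ := IsLocalization.exists_mk'_eq M z
  rw [IsLocalization.map_mk', IsLocalization.mk'_eq_iff_eq_mul, ← map_mul] at hz
  obtain ⟨⟨_, _, ⟨m, rfl⟩, rfl⟩, hm⟩ := IsLocalization.exists_of_eq (M := M.map φ) hz
  refine ⟨m + n, f ^ m * a, ?_⟩
  rw [map_mul, pow_add, map_mul, mul_assoc]
  exact hm.trans (by rw [mul_comm b])

lemma isReduced_of_span (s : Finset A) (hs : Ideal.span (s : Set A) = ⊤)
    (H : ∀ f ∈ s, IsReduced (Localization.Away f)) : IsReduced A := by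
  refine ⟨fun x hx => ?_⟩
  suffices h1 : (1 : A) ∈ (Submodule.span A {x}).annihilator by
    simpa [Submodule.mem_annihilator_span_singleton] using h1
  rw [← Ideal.eq_top_iff_one, ← Ideal.radical_eq_top, eq_top_iff, ← hs, Ideal.span_le]
  intro f hf
  have := H f hf
  have h0 : algebraMap A (Localization.Away f) x = algebraMap A _ 0 := by
    rw [map_zero]; exact (hx.map _).eq_zero
  obtain ⟨⟨_, n, rfl⟩, hn⟩ := IsLocalization.exists_of_eq (M := Submonoid.powers f) h0
  exact ⟨n, by simpa [Submodule.mem_annihilator_span_singleton] using hn⟩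

lemma isSeminormalRing_of_span (s : Finset A) (hs : Ideal.span (s : Set A) = ⊤)
    (H : ∀ f ∈ s, HTop.IsSeminormalRing (Localization.Away f)) : HTop.IsSeminormalRing A := by
  have hb := bijective_norm_of_span (sn := True) s hs
    (isReduced_of_span s hs fun f hf => isReduced_of_isSeminormalRing (H f hf))
    (fun f hf C' _ _ ψ hψ => bijective_of_isSeminormalRing hψ.radHomeo (hψ.trivRes trivial) (H f hf))
  exact isSeminormalRing_of_ringEquiv (RingEquiv.ofBijective _ hb).symm (isSeminormalRing_norm True)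

lemma isAWNRing_of_span (s : Finset A) (hs : Ideal.span (s : Set A) = ⊤)
    (H : ∀ f ∈ s, HTop.IsAWNRing (Localization.Away f)) : HTop.IsAWNRing A := by
  have hb := bijective_norm_of_span (sn := False) s hs
    (isReduced_of_span s hs fun f hf => isReduced_of_isSeminormalRing (H f hf).1)
    (fun f hf C' _ _ ψ hψ => bijective_of_isAWNRing hψ.radHomeo (H f hf))
  exact isAWNRing_of_ringEquiv (RingEquiv.ofBijective _ hb).symm (isAWNRing_norm not_false)

section Scheme

variable (X : Scheme.{u})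

/-- A property of rings stable under localization and local on spectra is checked on one cover. -/
lemma forall_affineOpens (P : ∀ (R : Type u) [CommRing R], Prop)
    (hloc : ∀ (R : Type u) [CommRing R] (f : R) (S : Type u) [CommRing S] [Algebra R S]
      [IsLocalization.Away f S], P R → P S)
    (hspan : ∀ (R : Type u) [CommRing R] (s : Finset R), Ideal.span (s : Set R) = ⊤ →
      (∀ f ∈ s, P (Localization.Away f)) → P R)
    (hiso : ∀ (R S : Type u) [CommRing R] [CommRing S] (_ : R ≃+* S), P R → P S)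
    (h : ∀ x : X, ∃ U : X.affineOpens, x ∈ (U : X.Opens) ∧ P Γ(X, U)) (V : X.affineOpens) :
    P Γ(X, V) := by
  choose U hxU hU using h
  refine of_affine_open_cover (P := fun V : X.affineOpens => P Γ(X, V)) U ?_ V ?_ ?_ hU
  · exact top_le_iff.mp fun x _ => TopologicalSpace.Opens.mem_iSup.mpr ⟨x, hxU x⟩
  · intro W f hW
    have := W.2.isLocalization_basicOpen f
    exact hloc Γ(X, W) f Γ(X, X.basicOpen f) hW
  · intro W s hs hW
    refine hspan Γ(X, W) s hs fun f hf => ?_
    have := W.2.isLocalization_basicOpen f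
    exact hiso _ _ (IsLocalization.algEquiv (Submonoid.powers f) Γ(X, X.basicOpen f)
      (Localization.Away f)).toRingEquiv (hW ⟨f, hf⟩)

variable {X}

lemma isSeminormalRing_of_isSeminormal (h : HTop.IsSeminormal X) (V : X.affineOpens) :
    HTop.IsSeminormalRing Γ(X, V) :=
  forall_affineOpens X (fun R _ => HTop.IsSeminormalRing R)
    (fun _ _ f _ _ _ _ hR => isSeminormalRing_localization (Submonoid.powers f) hR)
    (fun _ _ s hs hR => isSeminormalRing_of_span s hs hR)
    (fun _ _ _ _ e => isSeminormalRing_of_ringEquiv e) h V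

lemma isAWNRing_of_isAWN (h : HTop.IsAWN X) (V : X.affineOpens) : HTop.IsAWNRing Γ(X, V) :=
  forall_affineOpens X (fun R _ => HTop.IsAWNRing R)
    (fun _ _ f _ _ _ _ hR => isAWNRing_localization (Submonoid.powers f) hR)
    (fun _ _ s hs hR => isAWNRing_of_span s hs hR)
    (fun _ _ _ _ e => isAWNRing_of_ringEquiv e) h V

lemma isReduced_of_isSeminormal (h : HTop.IsSeminormal X) : AlgebraicGeometry.IsReduced X := by
  have : ∀ x : X, _root_.IsReduced (X.presheaf.stalk x) := by
    intro x
    obtain ⟨U, hxU, hU⟩ := h x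
    have := isReduced_of_isSeminormalRing hU
    let := TopCat.Presheaf.algebra_section_stalk X.presheaf ⟨x, hxU⟩
    have := U.2.isLocalization_stalk ⟨x, hxU⟩
    exact isReduced_localizationPreserves (U.2.primeIdealOf ⟨x, hxU⟩).asIdeal.primeCompl _ inferInstance
  exact isReduced_of_isReduced_stalk X

lemma isSeminormal_of_isAWN (h : HTop.IsAWN X) : HTop.IsSeminormal X := fun x => by
  obtain ⟨U, hx, hU⟩ := h x; exact ⟨U, hx, hU.1⟩

end Scheme

end Groth.Agent.WN
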