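/-
Universal homeomorphisms of schemes into seminormal / absolutely weakly normal schemes.
-/
import Groth.Agent.WN.Local
import Mathlib.AlgebraicGeometry.IdealSheaf.Subscheme
import Mathlib.AlgebraicGeometry.Morphisms.ClosedImmersion
import Mathlib.AlgebraicGeometry.Morphisms.IsIso

set_option autoImplicit false

universe u

open CategoryTheory AlgebraicGeometry Limits

namespace Groth.Agent.WN

variable {X Y Z : Scheme.{u}}

/-- Every residue field valued point of the target lifts. -/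
def ResLift (f : Y ⟶ X) : Prop :=
  ∀ x : X, ∃ l : Spec (X.residueField x) ⟶ Y, l ≫ f = X.fromSpecResidueField x

lemma universallyInjective_of_comp (f : X ⟶ Y) (g : Y ⟶ Z) [UniversallyInjective (f ≫ g)] :
    UniversallyInjective f := by
  refine ((tfae_universallyInjective f).out 0 1 rfl rfl).mpr fun K _ a b h => ?_
  have := ((tfae_universallyInjective (f ≫ g)).out 0 1 rfl rfl).mp ‹_› K
  exact this (by simp only [← Category.assoc]; exact congrArg (· ≫ g) h)

lemma isUnivHomeo_comp {f : X ⟶ Y} {g : Y ⟶ Z} (hf : FlatMor.IsUnivHomeo f)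
    (hg : FlatMor.IsUnivHomeo g) : FlatMor.IsUnivHomeo (f ≫ g) := by
  rw [isUnivHomeo_iff] at *
  obtain ⟨_, _, _⟩ := hf
  obtain ⟨_, _, _⟩ := hg
  exact ⟨inferInstance, MorphismProperty.comp_mem _ _ _ ‹_› ‹_›, inferInstance⟩

lemma isUnivHomeo_of_comp {f : X ⟶ Y} {g : Y ⟶ Z} (hfg : FlatMor.IsUnivHomeo (f ≫ g))
    (hg : FlatMor.IsUnivHomeo g) : FlatMor.IsUnivHomeo f := by
  rw [isUnivHomeo_iff] at *
  obtain ⟨_, _, _⟩ := hfg
  obtain ⟨_, _, _⟩ := hg
  refine ⟨IsIntegralHom.of_comp f g, universallyInjective_of_comp f g, ⟨fun y => ?_⟩⟩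
  obtain ⟨x, hx⟩ := (f ≫ g).surjective (g y)
  rw [Scheme.Hom.comp_apply] at hx
  exact ⟨x, g.injective hx⟩

lemma isUnivHomeo_isoClass {f : X ⟶ Y} [IsIso f] : FlatMor.IsUnivHomeo f := by
  rw [isUnivHomeo_iff]; exact ⟨inferInstance, inferInstance, inferInstance⟩

lemma isUnivHomeo_id : FlatMor.IsUnivHomeo (𝟙 X) := isUnivHomeo_isoClass

lemma isUnivHomeo_of_isPullback {P : Scheme.{u}} {f' : P ⟶ Z} {g' : P ⟶ X} {f : X ⟶ Y} {g : Z ⟶ Y}
    (H : IsPullback g' f' f g) (hf : FlatMor.IsUnivHomeo f) : FlatMor.IsUnivHomeo f' := by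
  rw [isUnivHomeo_iff] at *
  obtain ⟨h₁, h₂, h₃⟩ := hf
  exact ⟨MorphismProperty.of_isPullback H h₁, MorphismProperty.of_isPullback H h₂,
    MorphismProperty.of_isPullback H h₃⟩

lemma residueFieldsIso_comp {f : X ⟶ Y} {g : Y ⟶ Z} (hf : HTop.ResidueFieldsIso f)
    (hg : HTop.ResidueFieldsIso g) : HTop.ResidueFieldsIso (f ≫ g) := fun x => by
  rw [Scheme.residueFieldMap_comp]
  exact @IsIso.comp_isIso _ _ _ _ _ _ _ (hg (f x)) (hf x)

lemma residueFieldsIso_of_comp {f : X ⟶ Y} {g : Y ⟶ Z} (hfg : HTop.ResidueFieldsIso (f ≫ g))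
    (hg : HTop.ResidueFieldsIso g) : HTop.ResidueFieldsIso f := fun x => by
  have := hg (f x)
  have := hfg x
  rw [Scheme.residueFieldMap_comp] at this
  exact @IsIso.of_isIso_comp_left _ _ _ _ _ (g.residueFieldMap (f x)) (f.residueFieldMap x) (hg (f x)) this

lemma residueFieldsIso_of_isOpenImmersion (f : X ⟶ Y) [IsOpenImmersion f] :
    HTop.ResidueFieldsIso f := fun _ => inferInstance

lemma resLift_of_residueFieldsIso {f : Y ⟶ X} [Surjective f] (h : HTop.ResidueFieldsIso f) :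
    ResLift f := by
  intro x
  obtain ⟨y, rfl⟩ := f.surjective x
  have := h y
  refine ⟨Spec.map (inv (f.residueFieldMap y)) ≫ Y.fromSpecResidueField y, ?_⟩
  rw [Category.assoc, ← f.SpecMap_residueFieldMap_fromSpecResidueField y, ← Spec.map_comp_assoc,
    IsIso.hom_inv_id, Spec.map_id, Category.id_comp]

lemma residueFieldsIso_of_resLift {f : Y ⟶ X} (hinj : Function.Injective f) (h : ResLift f) :
    HTop.ResidueFieldsIso f := by
  intro y
  obtain ⟨l, hl⟩ := h (f y)
  obtain ⟨⟨z, τ⟩, rfl⟩ := (Y.SpecToEquivOfField (X.residueField (f y))).symm.surjective l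
  simp only [Scheme.SpecToEquivOfField_symm_apply, Category.assoc,
    ← f.SpecMap_residueFieldMap_fromSpecResidueField] at hl
  rw [← Spec.map_comp_assoc] at hl
  have hz : z = y := by
    refine hinj ?_
    have h1 := congr($hl (IsLocalRing.closedPoint _))
    rw [Scheme.Hom.comp_apply, Scheme.fromSpecResidueField_apply,
      Scheme.fromSpecResidueField_apply] at h1
    exact h1
  subst hz
  have h2 : f.residueFieldMap z ≫ τ = 𝟙 _ := Spec.map_injective
    ((cancel_mono (X.fromSpecResidueField (f z))).mp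
      (hl.trans ((congrArg (· ≫ X.fromSpecResidueField (f z)) (Spec.map_id _)).trans (Category.id_comp _)).symm))
  rw [ConcreteCategory.isIso_iff_bijective]
  refine ⟨RingHom.injective _, fun b => ⟨τ b, ?_⟩⟩
  refine RingHom.injective τ.hom ?_
  exact congr($h2 (τ b))

lemma resLift_of_isPullback {P : Scheme.{u}} {f' : P ⟶ Z} {g' : P ⟶ X} {f : X ⟶ Y} {g : Z ⟶ Y}
    (H : IsPullback g' f' f g) (hf : ResLift f) : ResLift f' := by
  intro z
  obtain ⟨l, hl⟩ := hf (g z)
  exact ⟨H.lift (Spec.map (g.residueFieldMap z) ≫ l) (Z.fromSpecResidueField z) (by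
    rw [Category.assoc, hl, g.SpecMap_residueFieldMap_fromSpecResidueField]), H.lift_snd _ _ _⟩

lemma residueFieldsIso_of_isPullback {P : Scheme.{u}} {f' : P ⟶ Z} {g' : P ⟶ X} {f : X ⟶ Y}
    {g : Z ⟶ Y} (H : IsPullback g' f' f g) (hf : FlatMor.IsUnivHomeo f)
    (hf' : HTop.ResidueFieldsIso f) : HTop.ResidueFieldsIso f' := by
  obtain ⟨-, -, _⟩ := (isUnivHomeo_iff f).mp hf
  obtain ⟨-, _, -⟩ := (isUnivHomeo_iff f').mp (isUnivHomeo_of_isPullback H hf)
  exact residueFieldsIso_of_resLift f'.injective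
    (resLift_of_isPullback H (resLift_of_residueFieldsIso hf'))

/-- The condition on a map under consideration: universal homeomorphism, with isomorphisms of
residue fields if `sn` holds. -/
structure GoodMor (sn : Prop) (f : Y ⟶ X) : Prop where
  isUnivHomeo : FlatMor.IsUnivHomeo f
  resIso : sn → HTop.ResidueFieldsIso f

lemma GoodMor.comp {sn : Prop} {f : X ⟶ Y} {g : Y ⟶ Z} (hf : GoodMor sn f) (hg : GoodMor sn g) :
    GoodMor sn (f ≫ g) :=
  ⟨isUnivHomeo_comp hf.1 hg.1, fun h => residueFieldsIso_comp (hf.2 h) (hg.2 h)⟩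

lemma GoodMor.of_comp {sn : Prop} {f : X ⟶ Y} {g : Y ⟶ Z} (hfg : GoodMor sn (f ≫ g))
    (hg : GoodMor sn g) : GoodMor sn f :=
  ⟨isUnivHomeo_of_comp hfg.1 hg.1, fun h => residueFieldsIso_of_comp (hfg.2 h) (hg.2 h)⟩

lemma goodMor_of_isIso (sn : Prop) (f : X ⟶ Y) [IsIso f] : GoodMor sn f :=
  ⟨isUnivHomeo_isoClass, fun _ => residueFieldsIso_of_isOpenImmersion f⟩

lemma GoodMor.of_isPullback {sn : Prop} {P : Scheme.{u}} {f' : P ⟶ Z} {g' : P ⟶ X} {f : X ⟶ Y}
    {g : Z ⟶ Y} (H : IsPullback g' f' f g) (hf : GoodMor sn f) : GoodMor sn f' :=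
  ⟨isUnivHomeo_of_isPullback H hf.1, fun h => residueFieldsIso_of_isPullback H hf.1 (hf.2 h)⟩

lemma goodMor_specMap_iff {A B : Type u} [CommRing A] [CommRing B] (sn : Prop) (φ : A →+* B) :
    GoodMor sn (Spec.map (CommRingCat.ofHom φ)) ↔ Good sn φ := by
  constructor
  · exact fun h => ⟨(isUnivHomeo_specMap_iff φ).mp h.1, fun hs => (residueFieldsIso_specMap_iff φ).mp (h.2 hs)⟩
  · exact fun h => ⟨(isUnivHomeo_specMap_iff φ).mpr h.1, fun hs => (residueFieldsIso_specMap_iff φ).mpr (h.2 hs)⟩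

/-- Seminormal (`sn`) or absolutely weakly normal. -/
def IsClosedRing (sn : Prop) (A : Type u) [CommRing A] : Prop :=
  HTop.IsSeminormalRing A ∧ (¬ sn → HTop.IsAWNRing A)

/-- The scheme version of `IsClosedRing`. -/
def IsClosedScheme (sn : Prop) (X : Scheme.{u}) : Prop :=
  HTop.IsSeminormal X ∧ (¬ sn → HTop.IsAWN X)

lemma isClosedScheme_true : IsClosedScheme True X ↔ HTop.IsSeminormal X :=
  ⟨fun h => h.1, fun h => ⟨h, fun h' => absurd trivial h'⟩⟩

lemma isClosedScheme_false : IsClosedScheme False X ↔ HTop.IsAWN X :=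
  ⟨fun h => h.2 not_false, fun h => ⟨isSeminormal_of_isAWN h, fun _ => h⟩⟩

lemma bijective_of_isClosedRing {A B : Type u} [CommRing A] [CommRing B] [_root_.IsReduced B]
    {sn : Prop} {φ : A →+* B} (h : Good sn φ) (hA : IsClosedRing sn A) : Function.Bijective φ := by
  by_cases hs : sn
  · exact bijective_of_isSeminormalRing h.1 (h.2 hs) hA.1
  · exact bijective_of_isAWNRing h.1 (hA.2 hs)

lemma isIso_of_isClosedScheme {sn : Prop} (π : Y ⟶ X) (hπ : GoodMor sn π)
    [AlgebraicGeometry.IsReduced Y] (hX : IsClosedScheme sn X) : IsIso π := by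
  obtain ⟨_, -, -⟩ := (isUnivHomeo_iff π).mp hπ.1
  change MorphismProperty.isomorphisms Scheme π
  rw [IsZariskiLocalAtTarget.iff_of_iSup_eq_top (P := MorphismProperty.isomorphisms Scheme)
    (fun U : X.affineOpens => U.1) (iSup_affineOpens_eq_top X)]
  intro U
  have : IsAffine U.1.toScheme := U.2
  have : IsAffine (π ⁻¹ᵁ U.1).toScheme := U.2.preimage π
  let ψ := (π ∣_ U.1).appTop
  have hr : GoodMor sn (π ∣_ U.1) := hπ.of_isPullback (isPullback_morphismRestrict π U.1).flip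
  have hfac : Spec.map ψ = ((π ⁻¹ᵁ U.1).toScheme.isoSpec.inv ≫ (π ∣_ U.1)) ≫ U.1.toScheme.isoSpec.hom := by
    rw [Category.assoc, ← Scheme.isoSpec_hom_naturality, Iso.inv_hom_id_assoc]
  have hψ : GoodMor sn (Spec.map (CommRingCat.ofHom ψ.hom)) := by
    change GoodMor sn (Spec.map ψ)
    rw [hfac]
    exact ((goodMor_of_isIso sn _).comp hr).comp (goodMor_of_isIso sn _)
  have hA : IsClosedRing sn Γ(U.1.toScheme, ⊤) := by
    have e := U.1.topIso.commRingCatIsoToRingEquiv.symm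
    exact ⟨isSeminormalRing_of_ringEquiv e (isSeminormalRing_of_isSeminormal hX.1 U),
      fun h => isAWNRing_of_ringEquiv e (isAWNRing_of_isAWN (hX.2 h) U)⟩
  have hb := bijective_of_isClosedRing ((goodMor_specMap_iff sn ψ.hom).mp hψ) hA
  change IsIso (π ∣_ U.1)
  have : IsIso (Spec.map ψ) := isIso_SpecMap_iff.mpr hb
  have e : π ∣_ U.1 = (π ⁻¹ᵁ U.1).toScheme.isoSpec.hom ≫ Spec.map ψ ≫ U.1.toScheme.isoSpec.inv := by
    rw [hfac]; simp
  rw [e]; infer_instance

/-- Every scheme has a reduced closed subscheme on the same space. -/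
lemma exists_reduction (P : Scheme.{u}) : ∃ (P₀ : Scheme.{u}) (ι : P₀ ⟶ P),
    AlgebraicGeometry.IsReduced P₀ ∧ IsClosedImmersion ι ∧ (∀ sn, GoodMor sn ι) ∧
      ∀ (W : Scheme.{u}) [AlgebraicGeometry.IsReduced W] (g : W ⟶ P), ∃ g₀ : W ⟶ P₀, g₀ ≫ ι = g := by
  let I := P.nilradical
  have hred : ∀ y : I.subscheme, _root_.IsReduced (I.subscheme.presheaf.stalk y) := by
    intro y
    obtain ⟨U, z, rfl⟩ := I.subschemeCover.openCover.exists_eq y
    have : AlgebraicGeometry.IsReduced (I.subschemeCover.openCover.X U) := by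
      have : _root_.IsReduced (CommRingCat.of (Γ(P, U.1) ⧸ I.ideal U)) := by
        change _root_.IsReduced (Γ(P, U.1) ⧸ I.ideal U)
        rw [← Ideal.isRadical_iff_quotient_reduced]
        simp [I, Scheme.nilradical, Scheme.IdealSheafData.radical, Ideal.radical_isRadical]
      exact inferInstanceAs (AlgebraicGeometry.IsReduced (Spec (CommRingCat.of (Γ(P, U.1) ⧸ I.ideal U))))
    exact isReduced_of_injective ((I.subschemeCover.openCover.f U).stalkMap z).hom
      (ConcreteCategory.bijective_of_isIso ((I.subschemeCover.openCover.f U).stalkMap z)).1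
  have hle : ∀ (W : Scheme.{u}) [AlgebraicGeometry.IsReduced W] (g : W ⟶ P), I ≤ g.ker := by
    intro W _ g
    refine Scheme.IdealSheafData.le_ofIdeals_iff.mpr fun U s hs => ?_
    rw [RingHom.mem_ker]
    simp only [I, Scheme.nilradical, Scheme.IdealSheafData.radical_ideal,
      Scheme.IdealSheafData.ideal_bot] at hs
    exact IsNilpotent.eq_zero (IsNilpotent.map (mem_nilradical.mp (by exact hs)) (g.app U.1).hom)
  have hs : Surjective I.subschemeι := ⟨by
    rw [← Set.range_eq_univ, Scheme.IdealSheafData.range_subschemeι, Scheme.support_nilradical]; rfl⟩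
  refine ⟨I.subscheme, I.subschemeι, isReduced_of_isReduced_stalk _, inferInstance, fun sn => ⟨?_, fun _ => ?_⟩, ?_⟩
  · rw [isUnivHomeo_iff]; exact ⟨inferInstance, inferInstance, inferInstance⟩
  · refine residueFieldsIso_of_resLift I.subschemeι.injective fun x => ?_
    exact ⟨IsClosedImmersion.lift I.subschemeι (P.fromSpecResidueField x) (by
      rw [Scheme.IdealSheafData.ker_subschemeι]; exact hle _ _), IsClosedImmersion.lift_fac _ _ _⟩
  · intro W _ g
    exact ⟨IsClosedImmersion.lift I.subschemeι g (by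
      rw [Scheme.IdealSheafData.ker_subschemeι]; exact hle _ _), IsClosedImmersion.lift_fac _ _ _⟩

lemma eq_of_comp_eq [AlgebraicGeometry.IsReduced Y] {π : X ⟶ Z} (hπ : FlatMor.IsUnivHomeo π)
    {h₁ h₂ : Y ⟶ X} (h : h₁ ≫ π = h₂ ≫ π) : h₁ = h₂ := by
  obtain ⟨_, _, -⟩ := (isUnivHomeo_iff π).mp hπ
  have hi := ((tfae_universallyInjective π).out 0 1 rfl rfl).mp ‹_›
  refine ext_of_fromSpecResidueField_eq h₁ h₂ π Set.univ dense_univ (fun y _ => ?_) h
  exact hi (Y.residueField y) (by simp only [Category.assoc, h])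

lemma existsUnique_lift {sn : Prop} {X' : Scheme.{u}} (hX' : IsClosedScheme sn X') (ν : X' ⟶ X)
    (π : Y ⟶ X) (hπ : GoodMor sn π) : ∃! h : X' ⟶ Y, h ≫ π = ν := by
  have := isReduced_of_isSeminormal hX'.1
  obtain ⟨P₀, ι, hP₀, -, hι, -⟩ := exists_reduction (pullback π ν)
  have hsnd := hπ.of_isPullback (IsPullback.of_hasPullback π ν)
  have : IsIso (ι ≫ pullback.snd π ν) := isIso_of_isClosedScheme _ ((hι sn).comp hsnd) hX'
  refine ⟨inv (ι ≫ pullback.snd π ν) ≫ ι ≫ pullback.fst π ν, ?_, fun h hh => ?_⟩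
  · simp only [Category.assoc, pullback.condition]
    rw [← Category.assoc ι, IsIso.inv_hom_id_assoc]
  · refine eq_of_comp_eq hπ.1 ?_
    rw [hh]
    simp only [Category.assoc, pullback.condition]
    rw [← Category.assoc ι, IsIso.inv_hom_id_assoc]

/-- The source of an initial good morphism is reduced. -/
lemma isReduced_of_initial {sn : Prop} {X' : Scheme.{u}} (ν : X' ⟶ X) (hν : GoodMor sn ν)
    (hinit : ∀ (Y : Scheme.{u}) (π : Y ⟶ X), GoodMor sn π → ∃! h : X' ⟶ Y, h ≫ π = ν) :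
    AlgebraicGeometry.IsReduced X' := by
  obtain ⟨P₀, ι, hP₀, hcl, hι, -⟩ := exists_reduction X'
  obtain ⟨s, hs, -⟩ := hinit P₀ (ι ≫ ν) ((hι sn).comp hν)
  obtain ⟨_, _, hu⟩ := hinit X' ν hν
  have h1 : s ≫ ι = 𝟙 X' :=
    (hu _ ((Category.assoc _ _ _).trans hs)).trans (hu _ (Category.id_comp ν)).symm
  have : IsSplitEpi ι := ⟨⟨⟨s, h1⟩⟩⟩
  have : IsIso ι := isIso_of_mono_of_isSplitEpi ι
  exact isReduced_of_isOpenImmersion (inv ι)

end Groth.Agent.WN
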