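/-
Factorisations through scheme theoretic images of universal homeomorphisms.
-/
import Groth.Agent.WN.Scheme
import Mathlib.AlgebraicGeometry.Morphisms.SchemeTheoreticallyDominant
import Mathlib.AlgebraicGeometry.ZariskisMainTheorem
import Mathlib.AlgebraicGeometry.Noetherian

set_option autoImplicit false

universe u

open CategoryTheory AlgebraicGeometry Limits

namespace Groth.Agent.WN

variable {T' T P : Scheme.{u}}

lemma isSchemeTheoreticallyDominant_toImage (h : T' ⟶ P) [QuasiCompact h] :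
    IsSchemeTheoreticallyDominant h.toImage := by
  rw [isSchemeTheoreticallyDominant_iff]
  refine Scheme.IdealSheafData.ext_of_iSup_eq_top
    (fun U : P.affineOpens => ⟨h.imageι ⁻¹ᵁ U.1, U.2.preimage h.imageι⟩) ?_ fun U => ?_
  · rw [← Scheme.Hom.preimage_iSup, iSup_affineOpens_eq_top, Scheme.Hom.preimage_top]
  · rw [Scheme.Hom.ker_apply, Scheme.IdealSheafData.ideal_bot]
    exact (RingHom.injective_iff_ker_eq_bot _).mp (h.toImage_app_injective U)

lemma eq_of_schemeTheoreticallyDominant {W Y S : Scheme.{u}} (d : T' ⟶ W)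
    [IsSchemeTheoreticallyDominant d] {a b : W ⟶ Y} (s : Y ⟶ S) [IsSeparated s]
    (hs : a ≫ s = b ≫ s) (hd : d ≫ a = d ≫ b) : a = b := by
  let a' : Over.mk (a ≫ s) ⟶ Over.mk s := Over.homMk a
  let b' : Over.mk (a ≫ s) ⟶ Over.mk s := Over.homMk b hs.symm
  let d' : Over.mk (d ≫ a ≫ s) ⟶ Over.mk (a ≫ s) := Over.homMk d
  have : IsSeparated (Over.mk s).hom := ‹_›
  let e := (equalizer.ι a' b').left
  let l := (equalizer.lift d' (show d' ≫ a' = d' ≫ b' from Over.OverMorphism.ext hd)).left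
  have hl : l ≫ e = d := by
    rw [← Over.comp_left, equalizer.lift_ι]; rfl
  have : IsIso e := by
    refine IsClosedImmersion.isIso_iff_ker_eq_bot.mpr (le_bot_iff.mp ?_)
    calc e.ker ≤ (l ≫ e).ker := Scheme.Hom.le_ker_comp _ _
      _ = ⊥ := by rw [hl]; exact d.ker_eq_bot
  exact (cancel_epi e).mp congr($(equalizer.condition a' b').left)

/-- The image of a universal homeomorphism `ν` in a separated finite type `T`-scheme is a finite
universal homeomorphism over `T`. -/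
lemma exists_finite_factor {sn : Prop} [IsNoetherian T] (ν : T' ⟶ T) (hν : GoodMor sn ν) (p : P ⟶ T)
    [LocallyOfFiniteType p] [IsSeparated p] (h : T' ⟶ P) (hh : h ≫ p = ν) :
    ∃ (T₁ : Scheme.{u}) (π : T₁ ⟶ T) (i : T₁ ⟶ P) (k : T' ⟶ T₁), IsFinite π ∧ GoodMor sn π ∧
      i ≫ p = π ∧ k ≫ i = h ∧ k ≫ π = ν ∧ IsSchemeTheoreticallyDominant k := by
  obtain ⟨_, _, _⟩ := (isUnivHomeo_iff ν).mp hν.1
  have : IsIntegralHom (h ≫ p) := hh.symm ▸ ‹IsIntegralHom ν›
  have : IsIntegralHom h := IsIntegralHom.of_comp h p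
  let Z := h.image
  let π : Z ⟶ T := h.imageι ≫ p
  let k : T' ⟶ Z := h.toImage
  have hk : k ≫ π = ν := by
    simp only [k, π, ← Category.assoc, h.toImage_imageι, hh]
  have : IsIntegralHom (k ≫ h.imageι) := by simpa [k] using ‹IsIntegralHom h›
  have : IsIntegralHom k := IsIntegralHom.of_comp k h.imageι
  have : Surjective k := Surjective.of_universallyClosed_of_isDominant k
  have : UniversallyClosed (k ≫ π) := hk.symm ▸ inferInstance
  have : UniversallyClosed π := UniversallyClosed.of_comp_surjective k π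
  have : IsProper π := { }
  have : Surjective (k ≫ π) := hk.symm ▸ ‹Surjective ν›
  have : Surjective π := Surjective.of_comp k π
  have hUI : UniversallyInjective π := by
    refine ⟨fun Y' X' g₁ g₂ f' H => ?_⟩
    intro z₁ z₂ hz
    let k' := pullback.fst g₁ k
    have hk' : Surjective k' := MorphismProperty.pullback_fst _ _ ‹Surjective k›
    obtain ⟨w₁, rfl⟩ := k'.surjective z₁
    obtain ⟨w₂, rfl⟩ := k'.surjective z₂
    have H' : IsPullback (k' ≫ f') (pullback.snd g₁ k) g₂ (k ≫ π) :=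
      (IsPullback.of_hasPullback g₁ k).flip.paste_vert H.flip |> fun h => h.flip
    have hi : UniversallyInjective (k ≫ π) := hk.symm ▸ ‹UniversallyInjective ν›
    have := UniversallyInjective.universally_injective (f := k ≫ π) _ _ _ H'
    refine congrArg k' (this ?_)
    rw [Scheme.Hom.comp_apply, Scheme.Hom.comp_apply]
    exact hz
  have hfin : IsFinite π := IsFinite.of_isProper_of_locallyQuasiFinite π
  refine ⟨Z, π, h.imageι, k, hfin, ⟨(isUnivHomeo_iff π).mpr ⟨inferInstance, hUI, ‹_›⟩, fun hs z => ?_⟩,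
    rfl, h.toImage_imageι, hk, isSchemeTheoreticallyDominant_toImage h⟩
  obtain ⟨t, rfl⟩ := k.surjective z
  have h1 : IsIso ((k ≫ π).residueFieldMap t) := hk.symm ▸ hν.2 hs t
  rw [Scheme.residueFieldMap_comp] at h1
  refine (ConcreteCategory.isIso_iff_bijective _).mpr ⟨RingHom.injective _, fun x => ?_⟩
  obtain ⟨y, hy⟩ := ((ConcreteCategory.isIso_iff_bijective _).mp h1).2 (k.residueFieldMap t x)
  exact ⟨y, RingHom.injective (k.residueFieldMap t).hom hy⟩

/-- Morphisms out of a universal homeomorphism factor through finite ones. -/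
theorem factors_through_finite {sn : Prop} {S X : Scheme.{u}} [IsNoetherian T] [X.IsSeparated]
    (fX : X ⟶ S) [LocallyOfFiniteType fX] (fT : T ⟶ S) (ν : T' ⟶ T) (hν : GoodMor sn ν) :
    (∀ g : T' ⟶ X, g ≫ fX = ν ≫ fT →
      ∃ (T₁ : Scheme.{u}) (π : T₁ ⟶ T) (_ : IsFinite π) (_ : GoodMor sn π) (g₁ : T₁ ⟶ X)
        (h : T' ⟶ T₁), h ≫ π = ν ∧ g₁ ≫ fX = π ≫ fT ∧ h ≫ g₁ = g) ∧
    (∀ (T₁ T₂ : Scheme.{u}) (π₁ : T₁ ⟶ T) (π₂ : T₂ ⟶ T) [IsFinite π₁] [IsFinite π₂],
      ∀ (g₁ : T₁ ⟶ X) (g₂ : T₂ ⟶ X) (h₁ : T' ⟶ T₁) (h₂ : T' ⟶ T₂),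
        g₁ ≫ fX = π₁ ≫ fT → g₂ ≫ fX = π₂ ≫ fT → h₁ ≫ π₁ = ν → h₂ ≫ π₂ = ν → h₁ ≫ g₁ = h₂ ≫ g₂ →
        ∃ (T₃ : Scheme.{u}) (π₃ : T₃ ⟶ T) (_ : IsFinite π₃) (_ : GoodMor sn π₃)
          (a₁ : T₃ ⟶ T₁) (a₂ : T₃ ⟶ T₂), a₁ ≫ π₁ = π₃ ∧ a₂ ≫ π₂ = π₃ ∧ a₁ ≫ g₁ = a₂ ≫ g₂) := by
  constructor
  · intro g hg
    obtain ⟨T₁, π, i, k, hf, hπ, hi, hki, hkπ, -⟩ :=
      exists_finite_factor ν hν (pullback.fst fT fX) (pullback.lift ν g hg.symm) (pullback.lift_fst _ _ _)
    refine ⟨T₁, π, hf, hπ, i ≫ pullback.snd fT fX, k, hkπ, ?_, ?_⟩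
    · rw [← hi, Category.assoc, Category.assoc, pullback.condition]
    · rw [reassoc_of% hki, pullback.lift_snd]
  · intro T₁ T₂ π₁ π₂ _ _ g₁ g₂ h₁ h₂ e₁ e₂ w₁ w₂ w
    obtain ⟨T₃, π₃, i, k, hf, hπ, hi, hki, hkπ, _⟩ :=
      exists_finite_factor ν hν (pullback.fst π₁ π₂ ≫ π₁) (pullback.lift h₁ h₂ (w₁.trans w₂.symm))
        (by rw [pullback.lift_fst_assoc, w₁])
    refine ⟨T₃, π₃, hf, hπ, i ≫ pullback.fst π₁ π₂, i ≫ pullback.snd π₁ π₂, ?_, ?_, ?_⟩
    · rw [Category.assoc, hi]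
    · rw [Category.assoc, ← pullback.condition, hi]
    · refine eq_of_schemeTheoreticallyDominant k fX ?_ ?_
      · simp only [Category.assoc, e₁, e₂, pullback.condition_assoc]
      · rw [Category.assoc, Category.assoc, reassoc_of% hki, reassoc_of% hki,
          pullback.lift_fst_assoc, pullback.lift_snd_assoc, w]

end Groth.Agent.WN
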