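/-
The equalizer of `B ⇉ (B ⊗_A B)_red` for an integral extension.
-/
import Groth.Agent.WN.Basic
import Mathlib.RingTheory.TensorProduct.Maps

set_option autoImplicit false

universe u

open scoped TensorProduct

namespace Groth.Agent.WN

variable (A B : Type u) [CommRing A] [CommRing B] [Algebra A B]

/-- The subalgebra of `b` with `b ⊗ 1 - 1 ⊗ b` nilpotent. -/
noncomputable def eqRed : Subalgebra A B :=
  AlgHom.equalizer
    ((Ideal.Quotient.mkₐ A (nilradical (B ⊗[A] B))).comp Algebra.TensorProduct.includeLeft)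
    ((Ideal.Quotient.mkₐ A (nilradical (B ⊗[A] B))).comp Algebra.TensorProduct.includeRight)

variable {A B}

lemma mem_eqRed (b : B) :
    b ∈ eqRed A B ↔ IsNilpotent (b ⊗ₜ[A] (1 : B) - (1 : B) ⊗ₜ[A] b) := by
  rw [eqRed, AlgHom.mem_equalizer, ← mem_nilradical]
  simp only [AlgHom.comp_apply, Ideal.Quotient.mkₐ_eq_mk, Algebra.TensorProduct.includeLeft_apply,
    Algebra.TensorProduct.includeRight_apply]
  exact Ideal.Quotient.eq

lemma le_eqRed_of_radicial (C : Subalgebra A B) (h : IsRadicial (algebraMap A C)) : C ≤ eqRed A B := by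
  intro b hb
  rw [mem_eqRed, ← mem_nilradical, nilradical_eq_sInf, Submodule.mem_sInf]
  intro (P : Ideal (B ⊗[A] B)) hP
  have : P.IsPrime := hP
  let π := algebraMap (B ⊗[A] B) P.ResidueField
  have e := h P.ResidueField
    ((π.comp (Algebra.TensorProduct.includeLeft (R := A) (S := A) (A := B) (B := B)).toRingHom).comp
      C.val.toRingHom)
    ((π.comp (Algebra.TensorProduct.includeRight (R := A) (A := B) (B := B)).toRingHom).comp
      C.val.toRingHom)
    (RingHom.ext fun a => by
      change π ((algebraMap A B a) ⊗ₜ[A] (1 : B)) = π ((1 : B) ⊗ₜ[A] algebraMap A B a)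
      rw [Algebra.TensorProduct.tmul_one_eq_one_tmul])
  rw [← Ideal.algebraMap_residueField_eq_zero, map_sub, sub_eq_zero]
  exact DFunLike.congr_fun e ⟨b, hb⟩

lemma isRadHomeo_eqRed [Algebra.IsIntegral A B] (hinj : Function.Injective (algebraMap A B)) :
    IsRadHomeo (algebraMap A (eqRed A B)) := by
  have hsub : Function.Injective (eqRed A B).val.toRingHom := Subtype.coe_injective
  have hint : (algebraMap A (eqRed A B)).IsIntegral :=
    RingHom.IsIntegral.tower_bot (algebraMap A (eqRed A B)) (eqRed A B).val.toRingHom hsub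
      (Algebra.IsIntegral.isIntegral (R := A) (A := B))
  have hint' : (eqRed A B).val.toRingHom.IsIntegral :=
    RingHom.IsIntegral.tower_top (algebraMap A (eqRed A B)) (eqRed A B).val.toRingHom
      (Algebra.IsIntegral.isIntegral (R := A) (A := B))
  refine ⟨hint, surj_of_isIntegral_of_ker_le hint ?_, ?_⟩
  · intro x hx
    rw [RingHom.mem_ker] at hx
    have : algebraMap A B x = 0 := congrArg Subtype.val hx
    rw [hinj (this.trans (map_zero _).symm)]
    exact zero_mem _
  · intro K _ g₁ g₂ hg
    let Ω := AlgebraicClosure K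
    let j : K →+* Ω := algebraMap K Ω
    have hs := surj_of_isIntegral_of_ker_le hint' (by
      rw [(RingHom.injective_iff_ker_eq_bot _).mp hsub]; exact bot_le)
    obtain ⟨h₁, e₁⟩ := exists_lift_point hint' hs Ω (j.comp g₁)
    obtain ⟨h₂, e₂⟩ := exists_lift_point hint' hs Ω (j.comp g₂)
    let := ((j.comp g₁).comp (algebraMap A (eqRed A B))).toAlgebra
    let k₁ : B →ₐ[A] Ω := ⟨h₁, fun a => DFunLike.congr_fun e₁ (algebraMap A (eqRed A B) a)⟩
    let k₂ : B →ₐ[A] Ω := ⟨h₂, fun a =>
      (DFunLike.congr_fun e₂ (algebraMap A (eqRed A B) a)).trans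
        (congrArg j (DFunLike.congr_fun hg a)).symm⟩
    let m := Algebra.TensorProduct.lift k₁ k₂ (fun _ _ => Commute.all _ _)
    refine RingHom.ext fun x => j.injective ?_
    have hx := ((mem_eqRed (x : B)).mp x.2).map m
    rw [isNilpotent_iff_eq_zero, map_sub, sub_eq_zero, Algebra.TensorProduct.lift_tmul,
      Algebra.TensorProduct.lift_tmul, map_one, map_one, mul_one, one_mul] at hx
    exact ((DFunLike.congr_fun e₁ x).symm.trans hx).trans (DFunLike.congr_fun e₂ x)

end Groth.Agent.WN
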