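/-
Absolutely weakly normal rings in characteristic p are the perfect ones.
-/
import Groth.Agent.WN.Local
import Mathlib.FieldTheory.Perfect

set_option autoImplicit false

universe u

namespace Groth.Agent.WN

variable {A : Type u} [CommRing A]

lemma perfectRing_of_isAWNRing (p : ℕ) [Fact p.Prime] (hp : (p : A) = 0)
    (hA : HTop.IsAWNRing A) : PerfectRing A p := by
  refine ⟨⟨fun a b h => ?_, fun x => ?_⟩⟩
  · obtain ⟨c, -, hc⟩ := hA.2 p (Fact.out) (a ^ p) 0 (by rw [hp, zero_pow (Fact.out : p.Prime).ne_zero, zero_mul])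
    simp only at h
    exact (hc a ⟨rfl, by rw [hp, zero_mul]⟩).trans (hc b ⟨h, by rw [hp, zero_mul]⟩).symm
  · obtain ⟨a, ⟨ha, -⟩, -⟩ := hA.2 p (Fact.out) x 0 (by rw [hp, zero_pow (Fact.out : p.Prime).ne_zero, zero_mul])
    exact ⟨a, ha.symm⟩

lemma isAWNRing_of_perfectRing (p : ℕ) [hp : Fact p.Prime] (hp0 : (p : A) = 0)
    [PerfectRing A p] : HTop.IsAWNRing A := by
  have hinj : Function.Injective (fun a : A => a ^ p) := (PerfectRing.bijective_frobenius (R := A) (p := p)).1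
  have : IsReduced A := by
    rw [isReduced_iff_pow_one_lt p hp.out.one_lt]
    exact fun x hx => hinj (by simp only [hx, zero_pow hp.out.ne_zero])
  refine ⟨fun x y h => ?_, fun ℓ hℓ x y h => ?_⟩
  · suffices ∃ a, x = a ^ 2 ∧ y = a ^ 3 by
      obtain ⟨a, h2, h3⟩ := this
      exact ⟨a, ⟨h2, h3⟩, fun b hb =>
        eq_of_sq_eq_of_cube_eq (hb.1.symm.trans h2) (hb.2.symm.trans h3)⟩
    obtain ⟨e, he2, he3⟩ : ∃ e : A, e ^ 2 = x ^ p ∧ e ^ 3 = y ^ p := by
      rcases hp.out.eq_two_or_odd' with rfl | ⟨k, rfl⟩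
      · exact ⟨x, rfl, h⟩
      · obtain ⟨j, rfl⟩ : ∃ j, k = j + 1 := ⟨k - 1, by
          have := hp.out.one_lt; lia⟩
        refine ⟨x ^ j * y, ?_, ?_⟩
        · rw [mul_pow, ← h, ← pow_mul, ← pow_add]; ring_nf
        · rw [mul_pow, ← pow_mul, show j * 3 = 3 * j by ring, pow_mul, h, ← pow_mul, ← pow_add]; ring_nf
    obtain ⟨a, ha⟩ := (PerfectRing.bijective_frobenius (R := A) (p := p)).2 e
    simp only at ha
    exact ⟨a, hinj (by simp only; rw [← he2, ← ha]; ring), hinj (by simp only; rw [← he3, ← ha]; ring)⟩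
  · suffices ∃ a, x = a ^ ℓ ∧ y = (ℓ : A) * a by
      obtain ⟨a, h1, h2⟩ := this
      exact ⟨a, ⟨h1, h2⟩, fun b hb =>
        eq_of_pow_prime_eq hℓ (hb.1.symm.trans h1) (hb.2.symm.trans h2)⟩
    by_cases hℓp : ℓ = p
    · subst hℓp
      obtain ⟨a, ha⟩ := (PerfectRing.bijective_frobenius (R := A) (p := ℓ)).2 x
      simp only at ha
      refine ⟨a, ha.symm, ?_⟩
      rw [hp0, zero_mul]
      rw [hp0, zero_pow hℓ.ne_zero, zero_mul] at h
      exact IsNilpotent.eq_zero ⟨ℓ, h.symm⟩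
    · obtain ⟨u, v, huv⟩ := (Nat.isCoprime_iff_coprime (m := ℓ) (n := p)).mpr
        ((Nat.coprime_primes hℓ hp.out).mpr hℓp)
      obtain ⟨c, hc⟩ : IsUnit (ℓ : A) := IsUnit.of_mul_eq_one_right (u : A) (by
        have := congrArg (Int.cast : ℤ → A) huv
        push_cast at this
        rw [hp0, mul_zero, add_zero] at this
        exact this)
      refine ⟨↑c⁻¹ * y, ?_, by rw [← hc, Units.mul_inv_cancel_left]⟩
      rw [mul_pow, ← h, ← hc, ← mul_assoc, ← mul_pow, Units.inv_mul, one_pow, one_mul]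

end Groth.Agent.WN

namespace Groth.Agent.WN

lemma isRingAWN_of_equiv {A B : Type u} [CommRing A] [CommRing B] (φ : A →+* B)
    (e : B ≃+* norm A False) (he : e.toRingHom.comp φ = algebraMap A (norm A False)) :
    HTop.IsRingAWN φ := by
  have hφ : e.symm.toRingHom.comp (algebraMap A (norm A False)) = φ := by
    rw [← he]; ext a; exact e.symm_apply_apply _
  refine ⟨?_, fun C _ ψ hψ => ?_⟩
  · rw [isUnivHomeo_specMap_iff]
    have h := (good_norm (A := A) False).radHomeo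
    rw [← hφ]
    refine h.comp ⟨e.symm.toRingHom.isIntegral_of_surjective e.symm.surjective, ?_, ?_⟩
    · exact surj_of_isIntegral_of_ker_le (e.symm.toRingHom.isIntegral_of_surjective e.symm.surjective)
        (le_of_eq_of_le ((RingHom.injective_iff_ker_eq_bot _).mp e.symm.injective) bot_le)
    · intro K _ g₁ g₂ hg
      refine RingHom.ext fun x => ?_
      obtain ⟨y, rfl⟩ := e.symm.surjective x
      exact DFunLike.congr_fun hg y
  · obtain ⟨χ, hχ, hu⟩ := (isRingAWN_norm (A := A)).2 C ψ hψ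
    refine ⟨e.symm.toRingHom.comp χ, show (e.symm.toRingHom.comp χ).comp ψ = φ by
      rw [RingHom.comp_assoc, hχ, hφ], fun χ' hχ' => ?_⟩
    have h' : e.toRingHom.comp χ' = χ := hu _ (show (e.toRingHom.comp χ').comp ψ = _ by
      rw [RingHom.comp_assoc, hχ', he])
    rw [← h']; ext a; exact (e.symm_apply_apply _).symm

end Groth.Agent.WN
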