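/-
Seminormality from local rings; open subschemes; normal schemes are seminormal.
-/
import Groth.Agent.WN.Scheme
import Groth.Agent.S15941
import Mathlib.RingTheory.LocalProperties.Reduced
import Groth.Prelude.Def_Pi1

set_option autoImplicit false

universe u

open CategoryTheory AlgebraicGeometry

namespace Groth.Agent.WN

variable {A : Type u} [CommRing A]

lemma isSeminormalRing_of_atMaximal
    (H : ∀ (m : Ideal A) [m.IsMaximal], HTop.IsSeminormalRing (Localization.AtPrime m)) :
    HTop.IsSeminormalRing A := by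
  have : _root_.IsReduced A := isReduced_ofLocalizationMaximal A fun m hm =>
    isReduced_of_isSeminormalRing (H m)
  suffices hb : Function.Bijective (algebraMap A (norm A True)) from
    isSeminormalRing_of_ringEquiv (RingEquiv.ofBijective _ hb).symm (isSeminormalRing_norm True)
  refine ⟨injective_of_reduced (good_norm (A := A) True).radHomeo, fun b => ?_⟩
  let φ := algebraMap A (norm A True)
  let I : Ideal A :=
    { carrier := {c | φ c * b ∈ φ.range}
      add_mem' := fun {x y} hx hy => by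
        simp only [Set.mem_ofPred_eq, map_add, add_mul] at hx hy ⊢; exact add_mem hx hy
      zero_mem' := by
        simp only [Set.mem_ofPred_eq, map_zero, zero_mul]; exact zero_mem _
      smul_mem' := fun c x hx => by
        simp only [Set.mem_ofPred_eq, smul_eq_mul, map_mul, mul_assoc] at hx ⊢
        exact mul_mem (RingHom.mem_range_self φ c) hx }
  suffices h1 : (1 : A) ∈ I by
    obtain ⟨a, ha⟩ := (h1 : φ 1 * b ∈ φ.range)
    exact ⟨a, by rw [map_one, one_mul] at ha; exact ha⟩
  rw [← Ideal.eq_top_iff_one]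
  by_contra hI
  obtain ⟨m, hm, hIm⟩ := Ideal.exists_le_maximal I hI
  let C' := Localization (m.primeCompl.map φ)
  have : _root_.IsReduced C' := isReduced_localizationPreserves (m.primeCompl.map φ) C' inferInstance
  have hg := (good_norm (A := A) True).localization m.primeCompl (Localization.AtPrime m) C'
  obtain ⟨z, hz⟩ := (bijective_of_isSeminormalRing hg.radHomeo (hg.trivRes trivial) (H m)).2
    (algebraMap _ C' b)
  obtain ⟨a, ⟨t, ht⟩, rfl⟩ := IsLocalization.exists_mk'_eq m.primeCompl z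
  rw [IsLocalization.map_mk', IsLocalization.mk'_eq_iff_eq_mul, ← map_mul] at hz
  obtain ⟨⟨_, c, hc, rfl⟩, he⟩ := IsLocalization.exists_of_eq (M := m.primeCompl.map φ) hz
  have : c * t ∈ I := by
    change φ (c * t) * b ∈ φ.range
    refine ⟨c * a, ?_⟩
    rw [map_mul, map_mul, mul_assoc]
    exact he.trans (by rw [mul_comm b])
  exact (m.primeCompl.mul_mem hc ht : c * t ∉ m) (hIm this)

variable {X : Scheme.{u}}

lemma isSeminormal_of_isNormalScheme (h : Pi1.IsNormalScheme X) : HTop.IsSeminormal X := by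
  intro x
  obtain ⟨U, hU, hx, -⟩ := exists_isAffineOpen_mem_and_subset (x := x) (U := ⊤) trivial
  refine ⟨⟨U, hU⟩, hx, isSeminormalRing_of_atMaximal fun m _ => ?_⟩
  let y : PrimeSpectrum Γ(X, U) := ⟨m, inferInstance⟩
  have hy : hU.fromSpec y ∈ U := by
    have : hU.fromSpec y ∈ (hU.fromSpec.opensRange : Set X) := ⟨y, rfl⟩
    rwa [hU.opensRange_fromSpec] at this
  let := TopCat.Presheaf.algebra_section_stalk X.presheaf ⟨hU.fromSpec y, hy⟩
  have hl : IsLocalization.AtPrime (X.presheaf.stalk (hU.fromSpec y)) m := hU.isLocalization_stalk' y hy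
  obtain ⟨_, _⟩ := h (hU.fromSpec y)
  exact isSeminormalRing_of_ringEquiv
    (IsLocalization.algEquiv m.primeCompl (X.presheaf.stalk (hU.fromSpec y))
      (Localization.AtPrime m)).toRingEquiv (S15941.result _)

lemma isClosedScheme_of_isOpenImmersion {sn : Prop} {U : Scheme.{u}} (f : U ⟶ X) [IsOpenImmersion f]
    (h : IsClosedScheme sn X) : IsClosedScheme sn U := by
  have key : ∀ x : U, ∃ (V : U.affineOpens) (W : X.affineOpens), x ∈ V.1 ∧
      Nonempty (Γ(X, W.1) ≃+* Γ(U, V.1)) := by
    intro x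
    obtain ⟨V, hV, hx, -⟩ := exists_isAffineOpen_mem_and_subset (x := x) (U := ⊤) trivial
    exact ⟨⟨V, hV⟩, ⟨f ''ᵁ V, hV.image_of_isOpenImmersion f⟩, hx,
      ⟨(f.appIso V).commRingCatIsoToRingEquiv⟩⟩
  refine ⟨fun x => ?_, fun hs x => ?_⟩ <;> obtain ⟨V, W, hx, ⟨e⟩⟩ := key x
  · exact ⟨V, hx, isSeminormalRing_of_ringEquiv e (isSeminormalRing_of_isSeminormal h.1 W)⟩
  · exact ⟨V, hx, isAWNRing_of_ringEquiv e (isAWNRing_of_isAWN (h.2 hs) W)⟩

lemma goodMor_iff_seminormalization {Y : Scheme.{u}} (π : Y ⟶ X) :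
    GoodMor True π ↔ FlatMor.IsUnivHomeo π ∧ HTop.ResidueFieldsIso π :=
  ⟨fun h => ⟨h.1, h.2 trivial⟩, fun h => ⟨h.1, fun _ => h.2⟩⟩

lemma goodMor_false_iff {Y : Scheme.{u}} (π : Y ⟶ X) : GoodMor False π ↔ FlatMor.IsUnivHomeo π :=
  ⟨fun h => h.1, fun h => ⟨h, False.elim⟩⟩

end Groth.Agent.WN
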