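/-
Existence of the absolute weak normalization and the seminormalization of a scheme, by gluing.
-/
import Groth.Agent.WN.Normal
import Mathlib.AlgebraicGeometry.Sites.SmallAffineZariski
import Mathlib.AlgebraicGeometry.RelativeGluing

set_option autoImplicit false

universe u

open CategoryTheory AlgebraicGeometry Limits

namespace Groth.Agent.WN

variable {A A' C : Type u} [CommRing A] [CommRing A'] [CommRing C]

lemma isClosedRing_norm (sn : Prop) : IsClosedRing sn (norm A sn) :=
  ⟨isSeminormalRing_norm sn, isAWNRing_norm⟩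

lemma hom_norm_ext {sn : Prop} {ψ : A →+* C} (hψ : IsRadicial ψ) {χ₁ χ₂ : C →+* norm A' sn}
    (h : χ₁.comp ψ = χ₂.comp ψ) : χ₁ = χ₂ := by
  refine RingHom.ext fun c => Subtype.ext (funext fun p => ?_)
  exact DFunLike.congr_fun (hψ _ (((Pi.evalRingHom _ p).comp (norm A' sn).val.toRingHom).comp χ₁)
    (((Pi.evalRingHom _ p).comp (norm A' sn).val.toRingHom).comp χ₂) (congrArg (fun g => (Pi.evalRingHom _ p).comp ((norm A' sn).val.toRingHom.comp g)) h)) c

lemma exists_map {sn : Prop} (ψ : A →+* C) (h : Good sn ψ) (f : A →+* A') :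
    ∃ χ : C →+* norm A' sn, χ.comp ψ = (algebraMap A' (norm A' sn)).comp f := by
  choose k hk using fun p : PrimeSpectrum A' => h.radHomeo.exists_lift
    (AlgebraicClosure p.asIdeal.ResidueField) ((algebraMap A' _).comp f)
  let F : C →+* PtAlg A' := Pi.ringHom k
  have hF : ∀ a, F (ψ a) = algebraMap A' (PtAlg A') (f a) := fun a =>
    funext fun p => DFunLike.congr_fun (hk p) a
  let S : Set (PtAlg A') := Set.range F
  let D := Algebra.adjoin A' S
  let G : C →+* D := F.codRestrict D.toSubring fun c => Algebra.subset_adjoin ⟨c, rfl⟩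
  have hG : G.comp ψ = (algebraMap A' D).comp f := RingHom.ext fun a => Subtype.ext (hF a)
  have hgood : Good sn (algebraMap A' D) := by
    refine good_adjoin sn S ?_ ?_ ?_
    · rintro _ ⟨c, rfl⟩
      obtain ⟨q, hq, hc⟩ := h.radHomeo.isIntegral c
      refine ⟨q.map f, hq.map _, ?_⟩
      rw [Polynomial.eval₂_map, ← show F.comp ψ = (algebraMap A' (PtAlg A')).comp f from RingHom.ext hF,
        ← Polynomial.hom_eval₂, hc, map_zero]
    · rintro K _ g₁ g₂ hg _ ⟨c, rfl⟩
      refine DFunLike.congr_fun (h.radHomeo.radicial K (g₁.comp G) (g₂.comp G) ?_) c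
      rw [RingHom.comp_assoc, RingHom.comp_assoc, hG, ← RingHom.comp_assoc, hg, RingHom.comp_assoc]
    · rintro hsn q _ _ ⟨c, rfl⟩
      obtain ⟨a, s, hs, hc⟩ := h.trivRes hsn (q.comap G) c
      have e : ∀ r, G (ψ r) = algebraMap A' D (f r) := DFunLike.congr_fun hG
      refine ⟨f a, f s, by rw [← e]; exact hs, ?_⟩
      rw [Ideal.mem_comap, map_sub, map_mul, e, e] at hc
      exact hc
  exact ⟨(Subalgebra.inclusion (le_norm hgood)).toRingHom.comp G, by
    rw [RingHom.comp_assoc, hG, ← RingHom.comp_assoc]; rfl⟩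

variable (sn : Prop)

/-- Functoriality of the normalization. -/
noncomputable def normMap (f : A →+* A') : norm A sn →+* norm A' sn :=
  (exists_map _ (good_norm (A := A) sn) f).choose

lemma normMap_comp_algebraMap (f : A →+* A') :
    (normMap sn f).comp (algebraMap A (norm A sn)) = (algebraMap A' (norm A' sn)).comp f :=
  (exists_map _ (good_norm (A := A) sn) f).choose_spec

lemma normMap_id : normMap sn (RingHom.id A) = RingHom.id _ :=
  hom_norm_ext (good_norm (A := A) sn).radHomeo.radicial (normMap_comp_algebraMap sn _)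

lemma normMap_comp {A'' : Type u} [CommRing A''] (f : A →+* A') (g : A' →+* A'') :
    normMap sn (g.comp f) = (normMap sn g).comp (normMap sn f) :=
  hom_norm_ext (good_norm (A := A) sn).radHomeo.radicial (by
    rw [normMap_comp_algebraMap, RingHom.comp_assoc, normMap_comp_algebraMap, ← RingHom.comp_assoc,
      ← RingHom.comp_assoc, normMap_comp_algebraMap])

lemma isLocalization_normMap (r : A) [Algebra A A'] [IsLocalization.Away r A'] :
    letI := (normMap sn (algebraMap A A')).toAlgebra
    IsLocalization.Away (algebraMap A (norm A sn) r) (norm A' sn) := by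
  let := (normMap sn (algebraMap A A')).toAlgebra
  let M := Submonoid.powers r
  let C' := Localization (M.map (algebraMap A (norm A sn)))
  have hcl := isClosedRing_norm (A := A) sn
  have hC' : IsClosedRing sn C' := ⟨isSeminormalRing_localization (M.map (algebraMap A (norm A sn))) hcl.1,
    fun h => isAWNRing_localization (M.map (algebraMap A (norm A sn))) (hcl.2 h)⟩
  have hg := (good_norm (A := A) sn).localization M A' C'
  obtain ⟨χ, hχ, -⟩ := existsUnique_norm _ hg
  have hc : Good sn χ := by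
    have hn : Good sn (χ.comp (IsLocalization.map C' (algebraMap A (norm A sn)) M.le_comap_map : A' →+* C')) :=
      hχ ▸ good_norm (A := A') sn
    exact ⟨hg.radHomeo.cancel hn.radHomeo, fun h => HasTrivRes.cancel (hn.trivRes h)⟩
  let e : C' ≃+* norm A' sn := RingEquiv.ofBijective χ (bijective_of_isClosedRing hc hC')
  have he : χ.comp (algebraMap (norm A sn) C') = normMap sn (algebraMap A A') :=
    hom_norm_ext (good_norm (A := A) sn).radHomeo.radicial (by
      rw [normMap_comp_algebraMap, RingHom.comp_assoc, ← IsLocalization.map_comp (S := A')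
        (Q := C') M.le_comap_map, ← RingHom.comp_assoc, hχ])
  let e' : C' ≃ₐ[norm A sn] norm A' sn := AlgEquiv.ofRingEquiv (f := e) (DFunLike.congr_fun he)
  have := IsLocalization.isLocalization_of_algEquiv (M.map (algebraMap A (norm A sn))) e'
  simp only [M, Submonoid.map_powers] at this
  exact this

variable (X : Scheme.{u})

/-- The presheaf of normalizations of the affine opens. -/
noncomputable def normFunctor : X.AffineZariskiSiteᵒᵖ ⥤ CommRingCat.{u} where
  obj U := .of (norm Γ(X, U.unop.1) sn)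
  map {U V} i := CommRingCat.ofHom (normMap sn
    (((Scheme.AffineZariskiSite.toOpensFunctor X).op ⋙ X.presheaf).map i).hom)
  map_id U := by
    rw [CategoryTheory.Functor.map_id, CommRingCat.hom_id]
    exact congrArg CommRingCat.ofHom (normMap_id sn)
  map_comp {U V W} i j := by
    rw [CategoryTheory.Functor.map_comp, CommRingCat.hom_comp]
    exact congrArg CommRingCat.ofHom (normMap_comp sn _ _)

/-- The structure map. -/
noncomputable def normNat :
    (Scheme.AffineZariskiSite.toOpensFunctor X).op ⋙ X.presheaf ⟶ normFunctor sn X where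
  app U := CommRingCat.ofHom (algebraMap Γ(X, U.unop.1) (norm Γ(X, U.unop.1) sn))
  naturality {U V} i := CommRingCat.hom_ext (normMap_comp_algebraMap sn _).symm

lemma coequifibered_normNat : (normNat sn X).Coequifibered := by
  refine Scheme.AffineZariskiSite.coequifibered_iff_forall_isLocalizationAway.mpr fun U r => ?_
  have : IsLocalization.Away r Γ(X, X.basicOpen r) := U.2.isLocalization_basicOpen r
  exact isLocalization_normMap (A := Γ(X, U.1)) (A' := Γ(X, X.basicOpen r)) sn r

/-- The gluing data of the normalization. -/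
noncomputable def normGlue :=
  Scheme.AffineZariskiSite.relativeGluingData (coequifibered_normNat sn X)

/-- The absolute weak normalization, resp. seminormalization of a scheme. -/
noncomputable def normScheme : Scheme.{u} :=
  haveI : ((normGlue sn X).functor ⋙ Scheme.forget).IsLocallyDirected :=
    Scheme.Cover.RelativeGluingData.instIsLocallyDirectedI₀CompFunctorForgetOfIsThin ..
  (normGlue sn X).glued

/-- Its structure morphism. -/
noncomputable def normHom : normScheme sn X ⟶ X :=
  haveI : ((normGlue sn X).functor ⋙ Scheme.forget).IsLocallyDirected :=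
    Scheme.Cover.RelativeGluingData.instIsLocallyDirectedI₀CompFunctorForgetOfIsThin ..
  (normGlue sn X).toBase

lemma isUnivHomeo_of_openCover {Y X : Scheme.{u}} (f : Y ⟶ X) (𝒰 : X.OpenCover)
    (h : ∀ i, ∃ (P : Scheme.{u}) (f' : P ⟶ 𝒰.X i) (g' : P ⟶ Y), IsPullback f' g' (𝒰.f i) f ∧
      FlatMor.IsUnivHomeo f') : FlatMor.IsUnivHomeo f := by
  have key : ∀ (P : MorphismProperty Scheme.{u}) [IsZariskiLocalAtTarget P],
      (∀ {A B : Scheme.{u}} (g : A ⟶ B), FlatMor.IsUnivHomeo g → P g) → P f := by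
    intro P _ hP
    refine (IsZariskiLocalAtTarget.iff_of_openCover (P := P) 𝒰).mpr fun i => ?_
    obtain ⟨Q, f', g', H, hf'⟩ := h i
    have : pullback.snd f (𝒰.f i) = H.flip.isoPullback.inv ≫ f' := by
      rw [Iso.eq_inv_comp, H.flip.isoPullback_hom_snd]
    change P (pullback.snd f (𝒰.f i))
    rw [this, MorphismProperty.cancel_left_of_respectsIso (P := P)]
    exact hP f' hf'
  rw [isUnivHomeo_iff]
  exact ⟨key @IsIntegralHom fun g hg => ((isUnivHomeo_iff g).mp hg).1,
    key @UniversallyInjective fun g hg => ((isUnivHomeo_iff g).mp hg).2.1,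
    key @Surjective fun g hg => ((isUnivHomeo_iff g).mp hg).2.2⟩

lemma goodMor_of_openCover {Y X : Scheme.{u}} {sn : Prop} (f : Y ⟶ X) (𝒰 : X.OpenCover)
    (h : ∀ i, ∃ (P : Scheme.{u}) (f' : P ⟶ 𝒰.X i) (g' : P ⟶ Y), IsPullback f' g' (𝒰.f i) f ∧
      GoodMor sn f') : GoodMor sn f := by
  have hu : FlatMor.IsUnivHomeo f := isUnivHomeo_of_openCover f 𝒰 fun i => by
    obtain ⟨P, f', g', H, hf'⟩ := h i; exact ⟨P, f', g', H, hf'.1⟩
  refine ⟨hu, fun hs => ?_⟩
  obtain ⟨-, _, -⟩ := (isUnivHomeo_iff f).mp hu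
  refine residueFieldsIso_of_resLift f.injective fun x => ?_
  obtain ⟨i, z, rfl⟩ := 𝒰.exists_eq x
  obtain ⟨P, f', g', H, hf'⟩ := h i
  obtain ⟨-, -, _⟩ := (isUnivHomeo_iff f').mp hf'.1
  obtain ⟨l, hl⟩ := resLift_of_residueFieldsIso (hf'.2 hs) z
  refine ⟨Spec.map (inv ((𝒰.f i).residueFieldMap z)) ≫ l ≫ g', ?_⟩
  rw [Category.assoc, Category.assoc, ← H.w, reassoc_of% hl,
    ← (𝒰.f i).SpecMap_residueFieldMap_fromSpecResidueField z, ← Spec.map_comp_assoc,
    IsIso.hom_inv_id, Spec.map_id, Category.id_comp]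

lemma goodMor_normHom : GoodMor sn (normHom sn X) := by
  have : ((normGlue sn X).functor ⋙ Scheme.forget).IsLocallyDirected :=
    Scheme.Cover.RelativeGluingData.instIsLocallyDirectedI₀CompFunctorForgetOfIsThin ..
  refine goodMor_of_openCover (normHom sn X) (Scheme.AffineZariskiSite.directedCover X) fun U => ?_
  refine ⟨_, _, _, (normGlue sn X).isPullback_natTrans_ι_toBase U, ?_⟩
  exact GoodMor.comp
    (g := (U : X.AffineZariskiSite).2.isoSpec.inv)
    ((goodMor_specMap_iff sn (algebraMap Γ(X, U.1) (norm Γ(X, U.1) sn))).mpr (good_norm _))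
    (goodMor_of_isIso sn _)

lemma isClosedScheme_normScheme : IsClosedScheme sn (normScheme sn X) := by
  have : ((normGlue sn X).functor ⋙ Scheme.forget).IsLocallyDirected :=
    Scheme.Cover.RelativeGluingData.instIsLocallyDirectedI₀CompFunctorForgetOfIsThin ..
  have key : ∀ y : normScheme sn X, ∃ (V : (normScheme sn X).affineOpens)
      (U : X.AffineZariskiSite), y ∈ V.1 ∧
      Nonempty (norm Γ(X, U.1) sn ≃+* Γ(normScheme sn X, V.1)) := by
    intro y
    obtain ⟨(U : X.AffineZariskiSite), z, rfl⟩ := (normGlue sn X).cover.exists_eq y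
    let g : Spec (CommRingCat.of (norm Γ(X, U.1) sn)) ⟶ normScheme sn X := (normGlue sn X).cover.f U
    have : IsOpenImmersion g := (normGlue sn X).cover.map_prop U
    refine ⟨⟨g ''ᵁ ⊤, (isAffineOpen_top _).image_of_isOpenImmersion g⟩, U, ⟨z, trivial, rfl⟩,
      ⟨(g.appIso ⊤ ≪≫ Scheme.ΓSpecIso _).symm.commRingCatIsoToRingEquiv⟩⟩
  refine ⟨fun y => ?_, fun h y => ?_⟩ <;> obtain ⟨V, U, hy, ⟨e⟩⟩ := key y
  · exact ⟨V, hy, isSeminormalRing_of_ringEquiv e (isClosedRing_norm sn).1⟩
  · exact ⟨V, hy, isAWNRing_of_ringEquiv e ((isClosedRing_norm sn).2 h)⟩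

theorem exists_normalization : ∃ (X' : Scheme.{u}) (ν : X' ⟶ X),
    IsClosedScheme sn X' ∧ GoodMor sn ν :=
  ⟨normScheme sn X, normHom sn X, isClosedScheme_normScheme sn X, goodMor_normHom sn X⟩

lemma isAWNormalization_of_isAWN {X' X : Scheme.{u}} (ν : X' ⟶ X) (hν : FlatMor.IsUnivHomeo ν)
    (hX' : HTop.IsAWN X') : HTop.IsAWNormalization ν :=
  ⟨hν, fun _ π hπ => existsUnique_lift (isClosedScheme_false.mpr hX') ν π ((goodMor_false_iff π).mpr hπ)⟩

lemma isClosedScheme_of_iso {Y Z : Scheme.{u}} {sn : Prop} (e : Y ⟶ Z) [IsIso e]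
    (h : IsClosedScheme sn Z) : IsClosedScheme sn Y :=
  isClosedScheme_of_isOpenImmersion e h

lemma isAWN_source_of_isAWNormalization {X' X : Scheme.{u}} {ν : X' ⟶ X}
    (hν : HTop.IsAWNormalization ν) : HTop.IsAWN X' := by
  obtain ⟨Y, π, hY, hπ⟩ := exists_normalization False X
  obtain ⟨a, ha, hau⟩ := hν.2 Y π hπ.1
  obtain ⟨b, hb, -⟩ := existsUnique_lift hY π ν ((goodMor_false_iff ν).mpr hν.1)
  obtain ⟨_, _, hu⟩ := hν.2 X' ν hν.1
  obtain ⟨_, _, hu'⟩ := existsUnique_lift hY π π hπ
  have h1 : a ≫ b = 𝟙 X' :=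
    (hu _ (show (a ≫ b) ≫ ν = ν by rw [Category.assoc, hb, ha])).trans (hu _ (Category.id_comp ν)).symm
  have h2 : b ≫ a = 𝟙 Y :=
    (hu' _ (show (b ≫ a) ≫ π = π by rw [Category.assoc, ha, hb])).trans (hu' _ (Category.id_comp π)).symm
  have : IsIso a := ⟨b, h1, h2⟩
  exact isClosedScheme_false.mp (isClosedScheme_of_iso a hY)

end Groth.Agent.WN
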